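import Cfsg.Agent.S0160
import Cfsg.Agent.Lib.Char.PPrimeDegree
import Cfsg.Agent.Lib.Char.Average
import Cfsg.Agent.Lib.Char.Quotient
import Cfsg.Agent.Lib.Block.ClassMul

/-!
Real characters whose degrees are prime to `p`: kernels, and real classes of a quotient by a
normal subgroup of odd order.
-/

set_option autoImplicit false

namespace Cfsg.Agent.Block.RealP

open scoped ComplexConjugate
open Cfsg Cfsg.Agent.Char Cfsg.Agent.Char.PPrime

universe u

variable {G : Type u} [Group G] [Finite G]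

/-- Every real-valued irreducible character has degree prime to `p`. -/
def RealPPrime (p : ℕ) (G : Type u) [Group G] : Prop :=
  ∀ χ : IrrCharacter G, (∀ g : G, ((χ : G → ℂ) g).im = 0) → ¬ p ∣ charDegree (χ : G → ℂ)

/-- The subgroup generated by the `2`-elements. -/
abbrev twoGen (G : Type u) [Group G] : Subgroup G :=
  Subgroup.closure {g : G | ∃ k : ℕ, orderOf g = 2 ^ k}

/-- A character of `p'`-degree is trivial on a normal subgroup inside the derived subgroup of a
`p`-subgroup. -/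
theorem ker_of_le_commutator (p : ℕ) [hp : Fact p.Prime] (P : Subgroup G) (hP : IsPGroup p P)
    (M : Subgroup G) [M.Normal] (hM : M ≤ ⁅P, P⁆) (χ : IrrCharacter G)
    (hdeg : ¬ p ∣ charDegree (χ : G → ℂ)) {k : G} (hk : k ∈ M) :
    (χ : G → ℂ) k = (χ : G → ℂ) 1 := by
  classical
  letI : Fintype G := Fintype.ofFinite _
  letI : Fintype P := Fintype.ofFinite _
  letI : Fintype M := Fintype.ofFinite _
  have hres : IsCharacter P (fun x : P => (χ : G → ℂ) x) := IsChar.res (IsIrr.isCharacter χ.2) P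
  obtain ⟨ψ, hψ, hψp⟩ := exists_constituent_pPrime hres (d := charDegree (χ : G → ℂ))
    (by exact charDeg_spec' χ) hdeg
  have hψ1 : (ψ : P → ℂ) 1 = 1 := by
    have hd := IsIrr.degree_dvd_card ψ.2 (charDeg_spec' ψ)
    obtain ⟨n, hn⟩ := IsPGroup.iff_card.1 hP
    rw [hn] at hd
    obtain ⟨i, -, hi⟩ := (Nat.dvd_prime_pow hp.out).1 hd
    rcases Nat.eq_zero_or_pos i with rfl | hi0
    · rw [charDeg_spec' ψ, hi, pow_zero, Nat.cast_one]
    · exact absurd (hi ▸ dvd_pow_self p hi0.ne') hψp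
  obtain ⟨l, hl⟩ := linearHom_of_isCharacter (IsIrr.isCharacter ψ.2) hψ1
  have hlM : ∀ x : P, (x : G) ∈ M → l x = 1 := by
    intro x hx
    have h1 : (x : G) ∈ (commutator P).map P.subtype := by
      rw [Subgroup.map_subtype_commutator]; exact hM hx
    obtain ⟨y, hy, hyx⟩ := h1
    rw [← Subtype.ext hyx]
    exact Abelianization.commutator_subset_ker l hy
  rcases avgN_irr M χ.2 with ⟨h0, -⟩ | ⟨hc, -⟩
  · exfalso
    obtain ⟨a, ha, hdec⟩ := IsChar.exists_decomp_inner hres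
    obtain ⟨M', hM'⟩ : ∃ M' : Subgroup P, M' = M.subgroupOf P := ⟨_, rfl⟩
    letI : Fintype M' := Fintype.ofFinite _
    have hMP : M ≤ P := hM.trans (Subgroup.commutator_le_self P)
    let e : M ≃ M' := ⟨fun m => ⟨⟨m, hMP m.2⟩, by rw [hM', Subgroup.mem_subgroupOf]; exact m.2⟩,
      fun m => ⟨(m.1 : G), by have := m.2; simp only [hM', Subgroup.mem_subgroupOf] at this; exact this⟩,
      fun m => rfl, fun m => rfl⟩
    have hsum : ∑ m : M, (χ : G → ℂ) m = 0 := by
      rw [classInner] at h0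
      simpa using h0
    have hs' : ∑ φ : IrrCharacter P, (a φ : ℂ) * ∑ m : M', (φ : P → ℂ) m = 0 := by
      rw [← hsum]
      simp only [Finset.mul_sum]
      rw [Finset.sum_comm, ← e.sum_comp]
      refine Finset.sum_congr rfl fun m _ => ?_
      have := congrFun hdec (e m : P)
      rw [sum_irr_apply] at this
      exact this.symm
    have hnat : ∀ φ : IrrCharacter P, ∃ n : ℕ, ∑ m : M', (φ : P → ℂ) m = (Nat.card M' : ℂ) * n := by
      intro φ
      obtain ⟨n, hn⟩ := IsChar.classInner_nat (IsChar.res (IsIrr.isCharacter φ.2) M') IsChar.one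
      refine ⟨n, ?_⟩
      rw [← hn, classInner, ← mul_assoc, mul_inv_cancel₀ (Nat.cast_ne_zero.2 Nat.card_pos.ne'), one_mul]
      simp
    choose n hn using hnat
    have hz : ∑ φ : IrrCharacter P, a φ * n φ = 0 := by
      simp only [hn] at hs'
      have h' : (Nat.card M' : ℂ) * ((∑ φ : IrrCharacter P, a φ * n φ : ℕ) : ℂ) = 0 := by
        rw [← hs']; push_cast; rw [Finset.mul_sum]; exact Finset.sum_congr rfl fun φ _ => by ring
      exact_mod_cast (mul_eq_zero.1 h').resolve_left (Nat.cast_ne_zero.2 Nat.card_pos.ne')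
    have hψn : n ψ = 1 := by
      have h := hn ψ
      rw [Finset.sum_congr rfl (g := fun _ => (1 : ℂ)) (fun m _ => by
        rw [hl]; show ((l m : ℂˣ) : ℂ) = 1
        rw [hlM m (by have := m.2; simp only [hM', Subgroup.mem_subgroupOf] at this; exact this),
          Units.val_one]),
        Finset.sum_const, Finset.card_univ, nsmul_eq_mul, mul_one, ← Nat.card_eq_fintype_card] at h
      have h2 := mul_left_cancel₀ (a := (Nat.card M' : ℂ)) (Nat.cast_ne_zero.2 Nat.card_pos.ne')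
        ((mul_one _).trans h)
      exact_mod_cast h2.symm
    have := Finset.single_le_sum (f := fun φ => a φ * n φ) (fun _ _ => Nat.zero_le _) (Finset.mem_univ ψ)
    rw [hz] at this
    simp only [hψn, mul_one, Nat.le_zero] at this
    rw [ha, this, Nat.cast_zero] at hψ
    exact hψ rfl
  · exact hc ⟨k, hk⟩

/-- An element of a finite group whose order is odd and a permutation of `2`-power order have a
common fixed point. -/
theorem exists_fixed_of_odd {X : Type*} [Finite X] (hX : Odd (Nat.card X)) (σ : Equiv.Perm X) {j : ℕ}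
    (hσ : σ ^ 2 ^ j = 1) : ∃ x, σ x = x := by
  classical
  haveI : Fintype X := Fintype.ofFinite X
  refine Equiv.Perm.exists_fixed_point_of_prime (p := 2) (n := j) ?_ hσ
  rw [← Nat.card_eq_fintype_card]
  intro h
  have := Nat.odd_iff.1 hX
  omega

/-- A real class of the quotient by a normal subgroup of odd order contains a real element. -/
theorem exists_real_lift (N : Subgroup G) [N.Normal] (hodd : Odd (Nat.card N)) (x : G)
    (hx : IsConj (x : G ⧸ N) (x : G ⧸ N)⁻¹) :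
    ∃ y : G, (y : G ⧸ N) = x ∧ IsConj y y⁻¹ := by
  classical
  obtain ⟨c, hc⟩ := isConj_iff.1 hx
  obtain ⟨g, rfl⟩ := QuotientGroup.mk_surjective c
  obtain ⟨k, o, ho, he⟩ : ∃ k o, Odd o ∧ orderOf g = 2 ^ k * o := by
    obtain ⟨k, o, ho, he⟩ := Nat.exists_eq_two_pow_mul_odd (orderOf_pos g).ne'
    exact ⟨k, o, ho, he⟩
  set h := g ^ o with hh
  have hh2 : h ^ 2 ^ k = 1 := by rw [hh, ← pow_mul, mul_comm, ← he, pow_orderOf_eq_one]
  have hconj : ∀ i : ℕ, ((g : G ⧸ N)) ^ (2 * i + 1) * (x : G ⧸ N) * ((g : G ⧸ N) ^ (2 * i + 1))⁻¹ =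
      (x : G ⧸ N)⁻¹ := by
    intro i
    induction i with
    | zero => simpa using hc
    | succ i ih =>
      rw [show 2 * (i + 1) + 1 = 2 + (2 * i + 1) by ring, pow_add, mul_inv_rev]
      calc (g : G ⧸ N) ^ 2 * (g : G ⧸ N) ^ (2 * i + 1) * (x : G ⧸ N) *
            (((g : G ⧸ N) ^ (2 * i + 1))⁻¹ * ((g : G ⧸ N) ^ 2)⁻¹)
          = (g : G ⧸ N) * ((g : G ⧸ N) * ((g : G ⧸ N) ^ (2 * i + 1) * (x : G ⧸ N) *
              ((g : G ⧸ N) ^ (2 * i + 1))⁻¹) * (g : G ⧸ N)⁻¹) * (g : G ⧸ N)⁻¹ := by rw [sq]; group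
        _ = (g : G ⧸ N) * (((g : G ⧸ N) * (x : G ⧸ N) * (g : G ⧸ N)⁻¹)⁻¹) * (g : G ⧸ N)⁻¹ := by
            rw [ih]; group
        _ = (g : G ⧸ N) * (x : G ⧸ N) * (g : G ⧸ N)⁻¹ := by rw [hc, inv_inv, hc]
        _ = _ := hc
  obtain ⟨i, hi⟩ := ho
  let X := {y : G // (y : G ⧸ N) = x}
  have hX : Nat.card X = Nat.card N :=
    Nat.card_congr
      { toFun := fun y => ⟨x⁻¹ * y.1, (QuotientGroup.eq).1 y.2.symm⟩
        invFun := fun n => ⟨x * n.1, by
          rw [QuotientGroup.mk_mul, (QuotientGroup.eq_one_iff _).2 n.2, mul_one]⟩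
        left_inv := fun y => Subtype.ext (by simp)
        right_inv := fun n => Subtype.ext (by simp) }
  have hmem : ∀ y : X, (((h * y.1 * h⁻¹)⁻¹ : G) : G ⧸ N) = x := by
    intro y
    rw [QuotientGroup.mk_inv, QuotientGroup.mk_mul, QuotientGroup.mk_mul, QuotientGroup.mk_inv, hh,
      QuotientGroup.mk_pow, y.2, hi, hconj, inv_inv]
  have hinj : Function.Injective (fun y : X => (⟨_, hmem y⟩ : X)) := fun a b hab =>
    Subtype.ext (by simpa using congrArg Subtype.val hab)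
  set σ := Equiv.ofBijective _ (Finite.injective_iff_bijective.1 hinj) with hσ
  have hσv : ∀ y : X, (σ y).1 = (h * y.1 * h⁻¹)⁻¹ := fun y => rfl
  have hσσ : ∀ y : X, ((σ ^ 2) y).1 = h ^ 2 * y.1 * (h ^ 2)⁻¹ := by
    intro y
    rw [sq, Equiv.Perm.mul_apply, hσv, hσv]
    group
  have hσ2 : ∀ (j : ℕ) (y : X), (((σ ^ 2) ^ j) y).1 = (h ^ 2) ^ j * y.1 * ((h ^ 2) ^ j)⁻¹ := by
    intro j
    induction j with
    | zero => intro y; simp
    | succ j ih =>
      intro y
      rw [pow_succ', Equiv.Perm.mul_apply, hσσ, ih]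
      group
  have hord : σ ^ 2 ^ (k + 1) = 1 := by
    ext y
    rw [show 2 ^ (k + 1) = 2 * 2 ^ k from pow_succ' 2 k, pow_mul, hσ2, Equiv.Perm.one_apply,
      ← pow_mul, mul_comm 2, pow_mul, hh2, one_pow]
    group
  obtain ⟨y, hy⟩ := exists_fixed_of_odd (hX.symm ▸ hodd) σ hord
  have hy' := congrArg Subtype.val hy
  rw [hσv] at hy'
  exact ⟨y.1, y.2, isConj_iff.2 ⟨h, by rw [← inv_inv (h * y.1 * h⁻¹), hy']⟩⟩

/-- An automorphism of `2`-power order moving something in a group of odd order inverts something. -/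
theorem exists_inverted {M : Type*} [Group M] (hodd : Odd (Nat.card M)) (α : MulAut M) {k : ℕ}
    (hk : α ^ 2 ^ k = 1) (hα : α ≠ 1) :
    ∃ (j : ℕ) (m : M), m ≠ 1 ∧ (α ^ j) m = m⁻¹ := by
  classical
  have hex : ∃ i, α ^ 2 ^ i = 1 := ⟨k, hk⟩
  obtain ⟨i, hi⟩ : ∃ i, Nat.find hex = i + 1 := by
    refine Nat.exists_eq_succ_of_ne_zero fun h0 => hα ?_
    have := Nat.find_spec hex
    rwa [h0, pow_zero, pow_one] at this
  have hlt := Nat.find_min hex (show i < Nat.find hex by omega)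
  have h2 := Nat.find_spec hex
  rw [hi, pow_succ, pow_mul, sq] at h2
  obtain ⟨a, ha⟩ : ∃ a, (α ^ 2 ^ i) a ≠ a := by
    by_contra hno
    push Not at hno
    exact hlt (MulEquiv.ext hno)
  refine ⟨2 ^ i, a⁻¹ * (α ^ 2 ^ i) a, fun e => ha (inv_mul_eq_one.1 e).symm, ?_⟩
  have h3 : (α ^ 2 ^ i) ((α ^ 2 ^ i) a) = a := by
    rw [← MulAut.mul_apply, h2, MulAut.one_apply]
  rw [map_mul, map_inv, h3, mul_inv_rev, inv_inv]

end Cfsg.Agent.Block.RealP
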