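import Cfsg.Agent.Lib.Block.RealPPrime.Corr

/-!
Real characters of `p'`-degree: the bijection with the normalizer of a Sylow subgroup.
-/

set_option autoImplicit false
set_option linter.unusedSectionVars false

namespace Cfsg.Agent.Block.RealP

open scoped ComplexConjugate
open Cfsg Cfsg.Agent.Char Cfsg.Agent.Block.RelGal

universe u

variable {G : Type u} [Group G] {p : ℕ}

/-- The normalizer of a Sylow subgroup. -/
abbrev Nm (P : Sylow p G) : Subgroup G := Subgroup.normalizer ((P : Subgroup G) : Set G)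

theorem mem_Nm (P : Sylow p G) (x : (P : Subgroup G)) : (x : G) ∈ Nm P :=
  Subgroup.le_normalizer x.2

variable (P : Sylow p G) (K : Subgroup G) [K.Normal]

/-- The action of `P` on `K`. -/
def actK : (P : Subgroup G) →* MulAut K :=
  (MulAut.conjNormal : G →* MulAut K).comp (P : Subgroup G).subtype

/-- The action of `P` on the trace of `K` on the normalizer. -/
def actM : (P : Subgroup G) →* MulAut (K.subgroupOf (Nm P)) :=
  (MulAut.conjNormal : Nm P →* MulAut (K.subgroupOf (Nm P))).comp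
    (Subgroup.inclusion (Subgroup.le_normalizer (H := (P : Subgroup G))))

/-- The inclusion of the trace of `K` on the normalizer. -/
def inclM : (K.subgroupOf (Nm P)) →* K :=
  MonoidHom.mk' (fun c => ⟨((c : Nm P) : G), c.2⟩) fun _ _ => rfl

/-- The inclusion of the Sylow subgroup of `K`. -/
def inclQ : ((P : Subgroup G).subgroupOf K) →* (K.subgroupOf (Nm P)) :=
  MonoidHom.mk' (fun q => ⟨⟨((q : K) : G), mem_Nm P ⟨((q : K) : G), q.2⟩⟩, (q : K).2⟩) fun _ _ => rfl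

variable [Finite G] [hp : Fact p.Prime]

theorem sys (hR : ((P : Subgroup G) ⊓ K).Normal) :
    Sys p (actK P K) (actM P K) (inclM P K) ((P : Subgroup G).subgroupOf K) (inclQ P K) where
  inj := fun a b h => Subtype.ext (Subtype.ext (congrArg (fun z : K => (z : G)) h :))
  equiv := fun x c => by
    apply Subtype.ext
    show (((MulAut.conjNormal (Subgroup.inclusion _ x) c : K.subgroupOf (Nm P)) : Nm P) : G) =
      ((MulAut.conjNormal (x : G) (inclM P K c) : K) : G)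
    rw [MulAut.conjNormal_apply, MulAut.conjNormal_apply]
    rfl
  norm := by
    rw [← Subgroup.inf_subgroupOf_right]
    exact Subgroup.Normal.subgroupOf hR K
  ιj := fun q => Subtype.ext rfl
  range_iff := fun k => by
    constructor
    · rintro ⟨c, rfl⟩ x
      rw [Subgroup.mem_subgroupOf, Subgroup.coe_mul, Subgroup.coe_inv]
      show ((MulAut.conjNormal (x : G) (inclM P K c) : K) : G) * _ ∈ (P : Subgroup G)
      rw [MulAut.conjNormal_apply]
      have h := (Subgroup.mem_normalizer_iff.1 (c : Nm P).2 ((x : G)⁻¹)).1 (inv_mem x.2)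
      have e : (x : G) * ((inclM P K c : K) : G) * (x : G)⁻¹ * ((inclM P K c : K) : G)⁻¹ =
          (x : G) * (((c : Nm P) : G) * (x : G)⁻¹ * ((c : Nm P) : G)⁻¹) := by
        show (x : G) * ((c : Nm P) : G) * (x : G)⁻¹ * ((c : Nm P) : G)⁻¹ = _
        group
      rw [e]
      exact mul_mem x.2 h
    · intro h
      have hle : ∀ x ∈ P, (k : G) * x * (k : G)⁻¹ ∈ (P : Subgroup G) := by
        intro x hx
        have h1 := h ⟨x⁻¹, inv_mem hx⟩
        rw [Subgroup.mem_subgroupOf, Subgroup.coe_mul, Subgroup.coe_inv] at h1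
        change ((MulAut.conjNormal (x⁻¹ : G) k : K) : G) * _ ∈ (P : Subgroup G) at h1
        rw [MulAut.conjNormal_apply, inv_inv] at h1
        have h2 := mul_mem (show x ∈ (P : Subgroup G) from hx) h1
        simpa [mul_assoc] using h2
      obtain ⟨i, hi, n, hn, e⟩ := exists_mul_normalizer P (P : Subgroup G) le_rfl (k : G) hle
      have hk : (k : G) ∈ Nm P := e ▸ mul_mem (Subgroup.le_normalizer hi) hn
      exact ⟨⟨⟨k, hk⟩, k.2⟩, Subtype.ext rfl⟩
  pGroup := P.isPGroup'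
  qGroup := P.isPGroup'.comap_of_injective K.subtype Subtype.val_injective
  idx := fun h => P.not_dvd_index (h.trans (relIndex_dvd_index K (P : Subgroup G)))

variable {P K}

theorem invF_actK_iff {θ : K → ℂ} :
    InvF (actK P K) θ ↔ (P : Subgroup G) ≤ inertia K θ := by
  constructor
  · intro h x hx
    rw [mem_inertia, conjN_eq_comp]
    exact funext fun k => h ⟨x, hx⟩ k
  · intro h x k
    have h1 := congrFun ((mem_inertia K).1 (h x.2)) k
    rw [conjN_eq_comp] at h1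
    exact h1

theorem invF_actM_iff {η : (K.subgroupOf (Nm P)) → ℂ} :
    InvF (actM P K) η ↔ (P : Subgroup G).subgroupOf (Nm P) ≤ inertia (K.subgroupOf (Nm P)) η := by
  constructor
  · intro h x hx
    rw [mem_inertia, conjN_eq_comp]
    funext k
    exact h ⟨x, hx⟩ k
  · intro h x k
    have h1 := congrFun ((mem_inertia _).1 (h (x := Subgroup.inclusion Subgroup.le_normalizer x) x.2)) k
    rw [conjN_eq_comp] at h1
    exact h1

theorem conjN_fixed {θ : K → ℂ} {g : G} (h : ∀ x ∈ P, g⁻¹ * x * g ∈ inertia K θ) :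
    (P : Subgroup G) ≤ inertia K (conjN K g⁻¹ θ) := by
  intro x hx
  rw [mem_inertia]
  have h1 := congrArg (conjN K g⁻¹) ((mem_inertia K).1 (h x hx))
  rw [← conjN_mul, mul_inv_cancel_right, conjN_mul] at h1
  exact h1

/-- Both fixed by `P` and conjugate: conjugate in the normalizer. -/
theorem exists_conj_Nm {θ : K → ℂ} (hθ : (P : Subgroup G) ≤ inertia K θ) {g : G}
    (hgθ : (P : Subgroup G) ≤ inertia K (conjN K g θ)) :
    ∃ n ∈ Nm P, conjN K g θ = conjN K n θ := by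
  obtain ⟨i, hi, n, hn, rfl⟩ := exists_mul_normalizer P (inertia K θ) hθ g fun x hx => by
    rw [mem_inertia]
    have h1 := congrArg (conjN K g⁻¹) ((mem_inertia K).1 (hgθ hx))
    rw [conjN_inv_cancel, ← conjN_mul, ← conjN_mul] at h1
    rw [mul_assoc]
    exact h1
  exact ⟨n, hn, by rw [conjN_mul, (mem_inertia K).1 hi]⟩

theorem invF_conjN_K {θ : K → ℂ} (h : InvF (actK P K) θ) {n : G} (hn : n ∈ Nm P) :
    InvF (actK P K) (conjN K n θ) := by
  rw [invF_actK_iff] at h ⊢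
  intro x hx
  have h1 := (mem_inertia K).1 (h ((Subgroup.mem_normalizer_iff.1 hn x).1 hx))
  rw [mem_inertia, ← conjN_mul, show n * x = n * x * n⁻¹ * n by group, conjN_mul, h1]

theorem invF_conjN_M {η : (K.subgroupOf (Nm P)) → ℂ} (h : InvF (actM P K) η) (n : Nm P) :
    InvF (actM P K) (conjN (K.subgroupOf (Nm P)) n η) := by
  rw [invF_actM_iff] at h ⊢
  intro x hx
  have hx' : n * x * n⁻¹ ∈ (P : Subgroup G).subgroupOf (Nm P) :=
    (Subgroup.mem_normalizer_iff.1 n.2 (x : G)).1 hx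
  have h1 := (mem_inertia _).1 (h hx')
  rw [mem_inertia, ← conjN_mul, show n * x = n * x * n⁻¹ * n by group, conjN_mul, h1]

variable [Fintype (K.subgroupOf (Nm P))]

theorem corr_conjN {θ : K → ℂ} {η : (K.subgroupOf (Nm P)) → ℂ}
    (h : RelGal.Corr (inclM P K) p θ η) (n : Nm P) :
    RelGal.Corr (inclM P K) p (conjN K (n : G) θ) (conjN (K.subgroupOf (Nm P)) n η) := by
  obtain ⟨m, hm, hd⟩ := h
  refine ⟨m, ?_, hd⟩
  rw [← hm, ← classInner_conjN (K.subgroupOf (Nm P)) n (fun c => θ (inclM P K c)) η]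
  congr 1

theorem corr_bar {θ : K → ℂ} {η : (K.subgroupOf (Nm P)) → ℂ}
    (h : RelGal.Corr (inclM P K) p θ η) :
    RelGal.Corr (inclM P K) p (fun k => conj (θ k)) (fun c => conj (η c)) := by
  obtain ⟨m, hm, hd⟩ := h
  refine ⟨m, ?_, hd⟩
  rw [← map_natCast (starRingEnd ℂ) m, ← hm]
  simp only [classInner, map_mul, map_inv₀, map_natCast, map_sum]

variable [Fintype G] [Fintype K] [Fintype ((P : Subgroup G).subgroupOf K)]
variable (hR : ((P : Subgroup G) ⊓ K).Normal)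
include hR

theorem real_of_real {θ : IrrCharacter K} {η : IrrCharacter (K.subgroupOf (Nm P))}
    (hθ : InvF (actK P K) (θ : K → ℂ)) (hη : InvF (actM P K) (η : (K.subgroupOf (Nm P)) → ℂ))
    (h : RelGal.Corr (inclM P K) p (θ : K → ℂ) (η : (K.subgroupOf (Nm P)) → ℂ)) :
    (∀ k, conj ((θ : K → ℂ) k) = (θ : K → ℂ) k) ↔
      ∀ c, conj ((η : (K.subgroupOf (Nm P)) → ℂ) c) = (η : (K.subgroupOf (Nm P)) → ℂ) c := by
  constructor
  · intro hr c
    have h1 := corr_bar h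
    rw [show (fun k => conj ((θ : K → ℂ) k)) = (θ : K → ℂ) from funext hr] at h1
    exact congrFun (congrArg Subtype.val ((sys P K hR).corr_unique (ξ := ⟨_, IsIrr.conj η.2⟩) (ξ' := η)
      hθ (fun x c => congrArg conj (hη x c)) hη h1 h)) c
  · intro hr k
    have h1 := corr_bar h
    rw [show (fun c => conj ((η : (K.subgroupOf (Nm P)) → ℂ) c)) =
      (η : (K.subgroupOf (Nm P)) → ℂ) from funext hr] at h1
    exact congrFun (congrArg Subtype.val ((sys P K hR).corr_inj (χ := ⟨_, IsIrr.conj θ.2⟩) (χ' := θ)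
      (fun x k => congrArg conj (hθ x k)) hθ hη h1 h)) k

theorem inertia_corr {θ : IrrCharacter K} {η : IrrCharacter (K.subgroupOf (Nm P))}
    (hθ : InvF (actK P K) (θ : K → ℂ)) (hη : InvF (actM P K) (η : (K.subgroupOf (Nm P)) → ℂ))
    (h : RelGal.Corr (inclM P K) p (θ : K → ℂ) (η : (K.subgroupOf (Nm P)) → ℂ)) :
    inertia (K.subgroupOf (Nm P)) (η : (K.subgroupOf (Nm P)) → ℂ) =
      (inertia K (θ : K → ℂ)).subgroupOf (Nm P) := by
  ext n
  rw [Subgroup.mem_subgroupOf, mem_inertia, mem_inertia]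
  have h1 := corr_conjN h n
  constructor
  · intro e
    rw [e] at h1
    exact congrArg Subtype.val ((sys P K hR).corr_inj (χ := ⟨_, IsIrr.conjN K θ.2 (n : G)⟩) (χ' := θ)
      (invF_conjN_K hθ n.2) hθ hη h1 h)
  · intro e
    rw [e] at h1
    exact congrArg Subtype.val ((sys P K hR).corr_unique (ξ := ⟨_, IsIrr.conjN _ η.2 n⟩) (ξ' := η)
      hθ (invF_conjN_M hη n) hη h1 h)

omit hR

variable (P K) in
/-- A real character of `G` and a real character of the normalizer over corresponding characters. -/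
def Rel (χ : G → ℂ) (ξ : Nm P → ℂ) : Prop :=
  ∃ (θ : IrrCharacter K) (η : IrrCharacter (K.subgroupOf (Nm P))),
    InvF (actK P K) (θ : K → ℂ) ∧ InvF (actM P K) (η : (K.subgroupOf (Nm P)) → ℂ) ∧
    (∀ k, conj ((θ : K → ℂ) k) = (θ : K → ℂ) k) ∧
    RelGal.Sign (inclM P K) p (θ : K → ℂ) (η : (K.subgroupOf (Nm P)) → ℂ) ∧
    classInner (fun k : K => χ k) (θ : K → ℂ) ≠ 0 ∧
    classInner (fun c : K.subgroupOf (Nm P) => ξ c) (η : (K.subgroupOf (Nm P)) → ℂ) ≠ 0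

variable [Fintype (Nm P)]

include hR

theorem rel_unique (hodd : Odd K.index) {χ χ' : IrrCharacter G} {ξ ξ' : IrrCharacter (Nm P)}
    (hχ : ∀ g, conj ((χ : G → ℂ) g) = (χ : G → ℂ) g)
    (hχ' : ∀ g, conj ((χ' : G → ℂ) g) = (χ' : G → ℂ) g)
    (hξ : ∀ n, conj ((ξ : Nm P → ℂ) n) = (ξ : Nm P → ℂ) n)
    (hξ' : ∀ n, conj ((ξ' : Nm P → ℂ) n) = (ξ' : Nm P → ℂ) n)
    (h : Rel P K (χ : G → ℂ) (ξ : Nm P → ℂ)) (h' : Rel P K (χ' : G → ℂ) (ξ' : Nm P → ℂ)) :
    χ = χ' ↔ ξ = ξ' := by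
  classical
  have hoddM : Odd (K.subgroupOf (Nm P)).index :=
    hodd.of_dvd_nat (Subgroup.relIndex_dvd_index_of_normal K (Nm P))
  obtain ⟨θ, η, hθi, hηi, hθr, hs, hθc, hηc⟩ := h
  obtain ⟨θ', η', hθi', hηi', hθr', hs', hθc', hηc'⟩ := h'
  have hηr := (real_of_real hR hθi hηi hs.corr).1 hθr
  constructor
  · rintro rfl
    obtain ⟨g, hg⟩ := exists_conj_of_constituents K χ.2 θ.2 θ'.2 hθc hθc'
    obtain ⟨n, hn, hn'⟩ := exists_conj_Nm (g := g) (invF_actK_iff.1 hθi)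
      (hg.symm ▸ invF_actK_iff.1 hθi')
    rw [hg] at hn'
    have h1 := corr_conjN hs.corr ⟨n, hn⟩
    have e : (η' : (K.subgroupOf (Nm P)) → ℂ) =
        conjN (K.subgroupOf (Nm P)) ⟨n, hn⟩ (η : (K.subgroupOf (Nm P)) → ℂ) := by
      refine congrArg Subtype.val ((sys P K hR).corr_unique (ξ := η')
        (ξ' := ⟨_, IsIrr.conjN _ η.2 _⟩) hθi' hηi' (invF_conjN_M hηi _) hs'.corr ?_)
      rw [show ((θ' : K → ℂ)) = conjN K n (θ : K → ℂ) from hn']
      exact h1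
    obtain ⟨ξ₀, hu⟩ := FS.existsUnique_real_over (K.subgroupOf (Nm P)) hoddM η.2 hηr
    refine ((hu ξ).1 ⟨hξ, hηc⟩).trans ((hu ξ').1 ⟨hξ', ?_⟩).symm
    rw [e, classInner_res_conjN _ (IsIrr.classFun ξ'.2)] at hηc'
    exact hηc'
  · rintro rfl
    obtain ⟨n, hn⟩ := exists_conj_of_constituents (K.subgroupOf (Nm P)) ξ.2 η.2 η'.2 hηc hηc'
    have h1 := corr_conjN hs.corr n
    rw [hn] at h1
    have e : conjN K (n : G) (θ : K → ℂ) = (θ' : K → ℂ) :=
      congrArg Subtype.val ((sys P K hR).corr_inj (χ := ⟨_, IsIrr.conjN K θ.2 _⟩) (χ' := θ')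
        (invF_conjN_K hθi n.2) hθi' hηi' h1 hs'.corr)
    obtain ⟨χ₀, hu⟩ := FS.existsUnique_real_over K hodd θ.2 hθr
    refine ((hu χ).1 ⟨hχ, hθc⟩).trans ((hu χ').1 ⟨hχ', ?_⟩).symm
    rw [← e, classInner_res_conjN _ (IsIrr.classFun χ'.2)] at hθc'
    exact hθc'

/-- Degrees of related characters. -/
theorem rel_degree (hodd : Odd K.index) {χ : IrrCharacter G} {ξ : IrrCharacter (Nm P)}
    (hχ : ∀ g, conj ((χ : G → ℂ) g) = (χ : G → ℂ) g)
    (hξ : ∀ n, conj ((ξ : Nm P → ℂ) n) = (ξ : Nm P → ℂ) n)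
    (h : Rel P K (χ : G → ℂ) (ξ : Nm P → ℂ)) :
    (charDegree (ξ : Nm P → ℂ) : ZMod p) = charDegree (χ : G → ℂ) ∨
      (charDegree (ξ : Nm P → ℂ) : ZMod p) = -(charDegree (χ : G → ℂ) : ZMod p) := by
  have hoddM : Odd (K.subgroupOf (Nm P)).index :=
    hodd.of_dvd_nat (Subgroup.relIndex_dvd_index_of_normal K (Nm P))
  obtain ⟨θ, η, hθi, hηi, hθr, hs, hθc, hηc⟩ := h
  have hηr := (real_of_real hR hθi hηi hs.corr).1 hθr
  have e1 := FS_degree K hodd θ χ hχ hθr hθc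
  have e2 := FS_degree (K.subgroupOf (Nm P)) hoddM η ξ hξ hηr hηc
  have e3 := (ZMod.natCast_eq_natCast_iff _ _ p).2
    (index_modEq P (inertia K (θ : K → ℂ)) (invF_actK_iff.1 hθi))
  rw [inertia_corr hR hθi hηi hs.corr] at e2
  rw [e1, e2, Nat.cast_mul, Nat.cast_mul, ← e3]
  rcases (sys P K hR).degree_congr hθi hηi hs (charDeg_spec' θ) (charDeg_spec' η) with h | h
  · exact Or.inl (by rw [h])
  · exact Or.inr (by rw [h, mul_neg])
where
  FS_degree {X : Type u} [Group X] [Fintype X] (L : Subgroup X) [L.Normal] [Fintype L]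
      (hodd : Odd L.index) (θ : IrrCharacter L) (χ : IrrCharacter X)
      (hχ : ∀ g, conj ((χ : X → ℂ) g) = (χ : X → ℂ) g)
      (hθr : ∀ k, conj ((θ : L → ℂ) k) = (θ : L → ℂ) k)
      (hθc : classInner (fun k : L => (χ : X → ℂ) k) (θ : L → ℂ) ≠ 0) :
      charDegree (χ : X → ℂ) = (inertia L (θ : L → ℂ)).index * charDegree (θ : L → ℂ) := by
    have h := degree_real_over L hodd θ.2 hθr χ.2 hχ hθc
    rw [charDeg_spec' χ, charDeg_spec' θ] at h
    exact_mod_cast h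

omit hR

/-- A `p`-subgroup fixes a coset of a subgroup of index prime to `p`. -/
theorem exists_fixed_coset {X : Type u} [Group X] [Finite X] (Q : Subgroup X) (hQ : IsPGroup p Q)
    (I : Subgroup X) (hI : ¬ p ∣ I.index) : ∃ g : X, ∀ x ∈ Q, g⁻¹ * x * g ∈ I := by
  letI : MulAction Q (X ⧸ I) := MulAction.compHom _ Q.subtype
  obtain ⟨c, hc⟩ := hQ.nonempty_fixed_point_of_prime_not_dvd_card (X ⧸ I)
    (by rwa [← Subgroup.index_eq_card])
  obtain ⟨g, rfl⟩ := QuotientGroup.mk_surjective c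
  refine ⟨g, fun x hx => ?_⟩
  have h1 : (((x * g : X)) : X ⧸ I) = (g : X ⧸ I) := hc ⟨x, hx⟩
  have h2 := I.inv_mem (QuotientGroup.eq.1 h1)
  simpa [mul_assoc] using h2

include hR

theorem rel_left (hodd : Odd K.index) (χ : IrrCharacter G)
    (hχ : ∀ g, conj ((χ : G → ℂ) g) = (χ : G → ℂ) g) (hd : ¬ p ∣ charDegree (χ : G → ℂ)) :
    ∃ ξ : IrrCharacter (Nm P), (∀ n, conj ((ξ : Nm P → ℂ) n) = (ξ : Nm P → ℂ) n) ∧
      ¬ p ∣ charDegree (ξ : Nm P → ℂ) ∧ Rel P K (χ : G → ℂ) (ξ : Nm P → ℂ) := by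
  classical
  obtain ⟨θ₀, hθ₀, hθ₀r⟩ := exists_real_constituent K hodd χ.2 hχ
  rw [rel_degree.FS_degree K hodd θ₀ χ hχ hθ₀r hθ₀] at hd
  obtain ⟨g, hg⟩ := exists_fixed_coset (P : Subgroup G) P.isPGroup' (inertia K (θ₀ : K → ℂ))
    fun h => hd (h.mul_right _)
  set θ : IrrCharacter K := ⟨conjN K g⁻¹ (θ₀ : K → ℂ), IsIrr.conjN K θ₀.2 _⟩ with hθdef
  have hθi : InvF (actK P K) (θ : K → ℂ) := invF_actK_iff.2 (conjN_fixed hg)
  have hθr : ∀ k, conj ((θ : K → ℂ) k) = (θ : K → ℂ) k := fun k => hθ₀r _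
  obtain ⟨η, hηi, hs⟩ := (sys P K hR).corr_exists θ hθi
  have hoddM : Odd (K.subgroupOf (Nm P)).index :=
    hodd.of_dvd_nat (Subgroup.relIndex_dvd_index_of_normal K (Nm P))
  obtain ⟨ξ, hu⟩ := FS.existsUnique_real_over (K.subgroupOf (Nm P)) hoddM η.2
    ((real_of_real hR hθi hηi hs.corr).1 hθr)
  obtain ⟨hξr, hξc⟩ := (hu ξ).2 rfl
  have hrel : Rel P K (χ : G → ℂ) (ξ : Nm P → ℂ) := ⟨θ, η, hθi, hηi, hθr, hs, by
    rw [hθdef, classInner_res_conjN K (IsIrr.classFun χ.2)]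
    exact hθ₀, hξc⟩
  refine ⟨ξ, hξr, fun h => ?_, hrel⟩
  rw [← rel_degree.FS_degree K hodd θ₀ χ hχ hθ₀r hθ₀, ← ZMod.natCast_eq_zero_iff] at hd
  rw [← ZMod.natCast_eq_zero_iff] at h
  rcases rel_degree hR hodd hχ hξr hrel with e | e <;> rw [h] at e
  · exact hd e.symm
  · exact hd (neg_eq_zero.1 e.symm)

theorem rel_right (hodd : Odd K.index) (ξ : IrrCharacter (Nm P))
    (hξ : ∀ n, conj ((ξ : Nm P → ℂ) n) = (ξ : Nm P → ℂ) n) (hd : ¬ p ∣ charDegree (ξ : Nm P → ℂ)) :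
    ∃ χ : IrrCharacter G, (∀ g, conj ((χ : G → ℂ) g) = (χ : G → ℂ) g) ∧
      Rel P K (χ : G → ℂ) (ξ : Nm P → ℂ) := by
  classical
  have hoddM : Odd (K.subgroupOf (Nm P)).index :=
    hodd.of_dvd_nat (Subgroup.relIndex_dvd_index_of_normal K (Nm P))
  obtain ⟨η, hηc, hηr⟩ := exists_real_constituent (K.subgroupOf (Nm P)) hoddM ξ.2 hξ
  rw [rel_degree.FS_degree (K.subgroupOf (Nm P)) hoddM η ξ hξ hηr hηc] at hd
  obtain ⟨g, hg⟩ := exists_fixed_coset ((P : Subgroup G).subgroupOf (Nm P))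
    (P.isPGroup'.comap_of_injective (Nm P).subtype Subtype.val_injective)
    (inertia (K.subgroupOf (Nm P)) (η : (K.subgroupOf (Nm P)) → ℂ)) fun h => hd (h.mul_right _)
  have hηi : InvF (actM P K) (η : (K.subgroupOf (Nm P)) → ℂ) := by
    rw [invF_actM_iff]
    intro x hx
    have h1 := hg (g * x * g⁻¹) ((Subgroup.mem_normalizer_iff.1 g.2 (x : G)).1 hx)
    rwa [show g⁻¹ * (g * x * g⁻¹) * g = x by group] at h1
  obtain ⟨θ, hθi, hs⟩ := (sys P K hR).corr_surj η hηi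
  have hθr := (real_of_real hR hθi hηi hs.corr).2 hηr
  obtain ⟨χ, hu⟩ := FS.existsUnique_real_over K hodd θ.2 hθr
  obtain ⟨hχr, hχc⟩ := (hu χ).2 rfl
  exact ⟨χ, hχr, θ, η, hθi, hηi, hθr, hs, hχc, hηc⟩

set_option maxHeartbeats 800000 in
omit [Fintype (K.subgroupOf (Nm P))] [Fintype G] [Fintype K]
  [Fintype ((P : Subgroup G).subgroupOf K)] [Fintype (Nm P)] in
/-- The bijection between real characters of `p'`-degree. -/
theorem exists_bijection (hodd : Odd K.index) (hreal : RealPPrime p G) :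
    ∃ f : {χ : IrrCharacter G // ∀ g : G, ((χ : G → ℂ) g).im = 0} →
      {ξ : IrrCharacter (Nm P) // (∀ n, ((ξ : Nm P → ℂ) n).im = 0) ∧
        ¬ p ∣ charDegree (ξ : Nm P → ℂ)},
      Function.Bijective f ∧ ∀ χ, (charDegree ((f χ).1 : Nm P → ℂ) : ZMod p) = charDegree (χ.1 : G → ℂ) ∨
        (charDegree ((f χ).1 : Nm P → ℂ) : ZMod p) = -(charDegree (χ.1 : G → ℂ) : ZMod p) := by
  classical
  letI : Fintype G := Fintype.ofFinite G
  letI : Fintype K := Fintype.ofFinite _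
  letI : Fintype (Nm P) := Fintype.ofFinite _
  letI : Fintype (K.subgroupOf (Nm P)) := Fintype.ofFinite _
  letI : Fintype ((P : Subgroup G).subgroupOf K) := Fintype.ofFinite _
  have hc : ∀ {X : Type u} {f : X → ℂ}, (∀ x, (f x).im = 0) → ∀ x, conj (f x) = f x :=
    fun h x => Complex.conj_eq_iff_im.2 (h x)
  choose ξ hξr hξp hrel using fun χ : {χ : IrrCharacter G // ∀ g : G, ((χ : G → ℂ) g).im = 0} =>
    rel_left hR hodd χ.1 (hc χ.2) (hreal χ.1 χ.2)
  refine ⟨fun χ => ⟨ξ χ, fun n => Complex.conj_eq_iff_im.1 (hξr χ n), hξp χ⟩, ⟨?_, ?_⟩,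
    fun χ => rel_degree hR hodd (hc χ.2) (hξr χ) (hrel χ)⟩
  · intro a b hab
    exact Subtype.ext ((rel_unique hR hodd (hc a.2) (hc b.2) (hξr a) (hξr b) (hrel a) (hrel b)).2
      (congrArg Subtype.val hab))
  · rintro ⟨ζ, hζr, hζp⟩
    obtain ⟨χ, hχr, h⟩ := rel_right hR hodd ζ (hc hζr) hζp
    have hχi : ∀ g : G, ((χ : G → ℂ) g).im = 0 := fun g => Complex.conj_eq_iff_im.1 (hχr g)
    refine ⟨⟨χ, hχi⟩, Subtype.ext ?_⟩
    have h1 : Rel P K (χ : G → ℂ) ((ξ ⟨χ, hχi⟩ : IrrCharacter (Nm P)) : Nm P → ℂ) := hrel ⟨χ, hχi⟩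
    have h2 : ∀ n, conj ((ξ ⟨χ, hχi⟩ : Nm P → ℂ) n) = (ξ ⟨χ, hχi⟩ : Nm P → ℂ) n := hξr ⟨χ, hχi⟩
    have h3 : ∀ n, conj ((ζ : Nm P → ℂ) n) = (ζ : Nm P → ℂ) n := fun n => Complex.conj_eq_iff_im.2 (hζr n)
    exact (rel_unique hR hodd hχr hχr h2 h3 h1 h).1 rfl

end Cfsg.Agent.Block.RealP
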