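import Cfsg.Agent.Lib.Block.RealPPrime.Main
import Cfsg.Agent.Lib.Block.RelGlaubermanMain

/-!
Real characters of `p'`-degree: the correspondence with the normalizer of a Sylow subgroup.
-/

set_option autoImplicit false
set_option linter.unusedSectionVars false

namespace Cfsg.Agent.Block.RealP

open scoped ComplexConjugate
open Cfsg Cfsg.Agent.Char

universe u

section SylowConj

variable {G : Type u} [Group G] [Finite G] {p : ℕ} [Fact p.Prime]

/-- Sylow's theorem inside a subgroup containing `P` and a conjugate of it. -/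
theorem exists_mul_normalizer (P : Sylow p G) (I : Subgroup G) (hP : (P : Subgroup G) ≤ I) (g : G)
    (hg : ∀ x ∈ P, g * x * g⁻¹ ∈ I) :
    ∃ i ∈ I, ∃ n ∈ Subgroup.normalizer ((P : Subgroup G) : Set G), g = i * n := by
  have hgP : ((g • P : Sylow p G) : Subgroup G) ≤ I := by
    rintro y ⟨x, hx, rfl⟩
    exact hg x hx
  obtain ⟨i, hi⟩ := MulAction.exists_smul_eq I (P.subtype hP) ((g • P).subtype hgP)
  rw [Sylow.smul_subtype] at hi
  have e : (i : G) • P = g • P := Sylow.subtype_injective hi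
  refine ⟨i, i.2, (i : G)⁻¹ * g, ?_, by group⟩
  rw [Sylow.coe_coe, ← Sylow.smul_eq_iff_mem_normalizer, mul_smul, ← e, inv_smul_smul]

/-- The index of a subgroup containing `P` and the index of its trace on the normalizer of `P`
agree modulo `p`. -/
theorem index_modEq (P : Sylow p G) (I : Subgroup G) (hP : (P : Subgroup G) ≤ I) :
    I.index ≡ (I.subgroupOf (Subgroup.normalizer ((P : Subgroup G) : Set G))).index [MOD p] := by
  classical
  set N := Subgroup.normalizer ((P : Subgroup G) : Set G) with hN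
  letI act : MulAction P (G ⧸ I) := MulAction.compHom _ (P : Subgroup G).subtype
  have h := P.isPGroup'.card_modEq_card_fixedPoints (G ⧸ I)
  rw [← Subgroup.index_eq_card] at h
  refine h.trans ?_
  rw [Subgroup.index_eq_card]
  have hfix : ∀ g : G, (g : G ⧸ I) ∈ MulAction.fixedPoints P (G ⧸ I) ↔ ∀ x ∈ P, g⁻¹ * x * g ∈ I := by
    intro g
    constructor
    · intro hg x hx
      have h1 : (((x * g : G)) : G ⧸ I) = (g : G ⧸ I) := hg ⟨x, hx⟩
      have h2 := I.inv_mem (QuotientGroup.eq.1 h1)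
      simpa [mul_assoc] using h2
    · rintro hg ⟨x, hx⟩
      show (((x * g : G)) : G ⧸ I) = (g : G ⧸ I)
      refine QuotientGroup.eq.2 ?_
      have h2 := I.inv_mem (hg x hx)
      simpa [mul_assoc] using h2
  have hwd : ∀ a b : N, a⁻¹ * b ∈ I.subgroupOf N → ((a : G) : G ⧸ I) = ((b : G) : G ⧸ I) := by
    intro a b hab
    exact QuotientGroup.eq.2 (by simpa [Subgroup.mem_subgroupOf] using hab)
  have hmem : ∀ a : N, ((a : G) : G ⧸ I) ∈ MulAction.fixedPoints P (G ⧸ I) := by
    intro a
    rw [hfix]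
    intro x hx
    refine hP ?_
    have := (Subgroup.mem_normalizer_iff.1 (N.inv_mem a.2) x).1 hx
    rwa [inv_inv] at this
  refine congrArg (· % p) (le_antisymm ?_ ?_)
  · refine Nat.card_le_card_of_surjective (Quotient.lift (fun a : N => (⟨_, hmem a⟩ :
      MulAction.fixedPoints P (G ⧸ I))) fun a b hab => Subtype.ext (hwd a b
        (QuotientGroup.leftRel_apply.1 hab))) ?_
    rintro ⟨c, hc⟩
    obtain ⟨g, rfl⟩ := QuotientGroup.mk_surjective c
    obtain ⟨i, hi, n, hn, e⟩ := exists_mul_normalizer P I hP g⁻¹ (fun x hx => by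
      simpa using (hfix g).1 hc x hx)
    refine ⟨Quotient.mk'' (⟨n, hn⟩⁻¹ : N), Subtype.ext (QuotientGroup.eq.2 ?_)⟩
    show ((n⁻¹ : G))⁻¹ * g ∈ I
    rw [show g = n⁻¹ * i⁻¹ by rw [← mul_inv_rev, ← e, inv_inv]]
    simpa using I.inv_mem hi
  · refine Nat.card_le_card_of_injective (Quotient.lift (fun a : N => (⟨_, hmem a⟩ :
      MulAction.fixedPoints P (G ⧸ I))) fun a b hab => Subtype.ext (hwd a b
        (QuotientGroup.leftRel_apply.1 hab))) ?_
    rintro ⟨a⟩ ⟨b⟩ hab
    refine Quotient.sound (QuotientGroup.leftRel_apply.2 ?_)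
    have := QuotientGroup.eq.1 (congrArg Subtype.val hab)
    simpa [Subgroup.mem_subgroupOf] using this

end SylowConj

section OddIndex

variable {G : Type u} [Group G] [Fintype G] (K : Subgroup G) [K.Normal] [Fintype K]

open Cfsg.Agent.Block.FS

/-- The indicator of a character induced from a normal subgroup of odd index. -/
theorem ind_indFun_normal_odd (hodd : Odd K.index) (θ : K → ℂ) : ind (indFun K θ) = ind θ := by
  classical
  have hout : ∀ g : G, g ∉ K → indFun K θ (g * g) = 0 := by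
    intro g hg
    refine indFun_eq_zero_of_not_conj K θ fun x hx => absurd ?_ hg
    have h1 := (inferInstance : K.Normal).conj_mem _ hx x
    rw [show x * (x⁻¹ * (g * g) * x) * x⁻¹ = g * g by group] at h1
    obtain ⟨r, hr⟩ := hodd
    have h2 := K.pow_index_mem g
    rw [hr, pow_succ, pow_mul, pow_two] at h2
    exact (K.mul_mem_cancel_left (K.pow_mem h1 r)).1 h2
  have hin : ∀ k : K, indFun K θ ((k : G) * k) =
      (Nat.card K : ℂ)⁻¹ * ∑ x : G, θ (conjEquivN K x⁻¹ k * conjEquivN K x⁻¹ k) := by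
    intro k
    rw [indFun]
    congr 1
    refine Finset.sum_congr rfl fun x _ => ?_
    have hm : x⁻¹ * ((k : G) * k) * x ∈ K := by
      simpa using (inferInstance : K.Normal).conj_mem _ (K.mul_mem k.2 k.2) x⁻¹
    rw [extendByZero_of_mem _ hm]
    refine congrArg θ (Subtype.ext ?_)
    rw [conjEquivN_apply]
    simp [mul_assoc]
  have hsum : ∑ g : G, indFun K θ (g * g) = ∑ k : K, indFun K θ ((k : G) * k) := by
    rw [← Finset.sum_filter_add_sum_filter_not Finset.univ (fun g : G => g ∈ K),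
      Finset.sum_eq_zero (s := Finset.univ.filter fun g : G => ¬ g ∈ K)
        (fun g hg => hout g (Finset.mem_filter.1 hg).2), add_zero]
    exact (Finset.sum_subtype _ (fun g => by simp) _)
  have hconst : ∀ x : G, ∑ k : K, θ (conjEquivN K x⁻¹ k * conjEquivN K x⁻¹ k) = ∑ k : K, θ (k * k) :=
    fun x => Fintype.sum_equiv (conjEquivN K x⁻¹).toEquiv _ _ fun k => rfl
  rw [ind, ind, hsum, Finset.sum_congr rfl fun k _ => hin k, ← Finset.mul_sum, Finset.sum_comm,
    Finset.sum_congr rfl fun x _ => hconst x, Finset.sum_const, Finset.card_univ, nsmul_eq_mul,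
    ← Nat.card_eq_fintype_card]
  have hG : (Nat.card G : ℂ) ≠ 0 := Nat.cast_ne_zero.2 Nat.card_pos.ne'
  field_simp

/-- The real character over a real character of a normal subgroup of odd index contains it once. -/
theorem classInner_real_over_eq_one (hodd : Odd K.index) {θ : K → ℂ} (hθ : IsIrrCharacter K θ)
    (hreal : ∀ k, conj (θ k) = θ k) {χ : G → ℂ} (hχ : IsIrrCharacter G χ)
    (hχr : ∀ g, conj (χ g) = χ g) (hov : classInner (fun k : K => χ k) θ ≠ 0) :
    classInner (fun k : K => χ k) θ = 1 := by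
  classical
  obtain ⟨χ₀, hu⟩ := existsUnique_real_over K hodd hθ hreal
  have hex : ∀ φ : IrrCharacter G, ∃ n : ℕ, classInner (fun k : K => (φ : G → ℂ) k) θ = n := fun φ =>
    IsChar.classInner_nat (IsChar.res (IsIrr.isCharacter φ.2) K) (IsIrr.isCharacter hθ)
  choose a ha using hex
  have hdec : indFun K θ = fun g => ∑ φ : IrrCharacter G, (a φ : ℂ) * (φ : G → ℂ) g := by
    funext g
    have h := congrFun (classFunction_expansion (indFun_classFun K θ)) g
    rw [sum_irr_apply] at h
    rw [h]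
    refine Finset.sum_congr rfl fun φ _ => ?_
    rw [classInner_indFun K θ (IsIrr.classFun φ.2), ← classInner_conj_symm, ha, map_natCast]
  have h1 : ind θ = (a ⟨χ, hχ⟩ : ℂ) * ind χ := by
    rw [← ind_indFun_normal_odd K hodd θ, hdec, ind_sum,
      Finset.sum_eq_single (⟨χ, hχ⟩ : IrrCharacter G)]
    · intro φ _ hne
      rcases ind_eq φ with ⟨h0, -⟩ | ⟨-, hr⟩
      · rw [h0, mul_zero]
      · have : a φ = 0 := by
          by_contra hne'
          refine hne (((hu φ).1 ⟨hr, by rw [ha]; exact Nat.cast_ne_zero.2 hne'⟩).trans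
            ((hu ⟨χ, hχ⟩).1 ⟨hχr, hov⟩).symm)
        rw [this, Nat.cast_zero, zero_mul]
    · simp
  have hθ' : ind θ = 1 ∨ ind θ = -1 := by
    rcases ind_eq (⟨θ, hθ⟩ : IrrCharacter K) with ⟨-, h⟩ | ⟨h, -⟩
    · exact absurd hreal h
    · exact h
  have hχ' : ind χ = 1 ∨ ind χ = -1 := by
    rcases ind_eq (⟨χ, hχ⟩ : IrrCharacter G) with ⟨-, h⟩ | ⟨h, -⟩
    · exact absurd hχr h
    · exact h
  have h2 : (a ⟨χ, hχ⟩ : ℂ) = 1 ∨ (a ⟨χ, hχ⟩ : ℂ) = -1 := by
    rcases hθ' with e | e <;> rcases hχ' with e' | e' <;> rw [e, e'] at h1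
    · exact Or.inl (by linear_combination -h1)
    · exact Or.inr (by linear_combination h1)
    · exact Or.inr (by linear_combination -h1)
    · exact Or.inl (by linear_combination h1)
  rw [show classInner (fun k : K => χ k) θ = (a ⟨χ, hχ⟩ : ℂ) from ha ⟨χ, hχ⟩]
  rcases h2 with h | h
  · exact h
  · exfalso
    have h3 : (a ⟨χ, hχ⟩ : ℤ) = -1 := by exact_mod_cast h
    omega

/-- The degree of the real character over a real character of a normal subgroup of odd index. -/
theorem degree_real_over (hodd : Odd K.index) {θ : K → ℂ} (hθ : IsIrrCharacter K θ)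
    (hreal : ∀ k, conj (θ k) = θ k) {χ : G → ℂ} (hχ : IsIrrCharacter G χ)
    (hχr : ∀ g, conj (χ g) = χ g) (hov : classInner (fun k : K => χ k) θ ≠ 0) :
    χ 1 = ((inertia K θ).index : ℂ) * θ 1 := by
  rw [clifford_one K hχ hθ hov, classInner_real_over_eq_one K hodd hθ hreal hχ hχr hov, one_mul]

/-- A real character has a real constituent on a normal subgroup of odd index. -/
theorem exists_real_constituent (hodd : Odd K.index) {χ : G → ℂ} (hχ : IsIrrCharacter G χ)
    (hχr : ∀ g, conj (χ g) = χ g) :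
    ∃ θ : IrrCharacter K, classInner (fun k : K => χ k) (θ : K → ℂ) ≠ 0 ∧
      ∀ k, conj ((θ : K → ℂ) k) = (θ : K → ℂ) k := by
  classical
  obtain ⟨θ, hθ⟩ := IsChar.exists_constituent' (IsChar.res (IsIrr.isCharacter hχ) K) (by
    show χ ((1 : K) : G) ≠ 0
    rw [Subgroup.coe_one]; exact IsIrr.one_ne_zero hχ)
  have hbar : ∀ f : {f // f ∈ conjOrbit K (θ : K → ℂ)},
      (fun k => conj (f.1 k)) ∈ conjOrbit K (θ : K → ℂ) := by
    rintro ⟨f, hf⟩
    obtain ⟨g, rfl⟩ := (mem_conjOrbit K).1 hf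
    have h1 : classInner (fun k : K => χ k) (fun k => conj (conjN K g (θ : K → ℂ) k)) =
        conj (classInner (fun k : K => χ k) (conjN K g (θ : K → ℂ))) := by
      simp only [classInner, map_mul, map_inv₀, map_natCast, map_sum, hχr]
    obtain ⟨g', hg'⟩ := exists_conj_of_constituents K hχ θ.2
      (IsIrr.conj (IsIrr.conjN K θ.2 g)) hθ (by
        rw [h1, Ne, map_eq_zero, classInner_res_conjN K (IsIrr.classFun hχ)]
        exact hθ)
    exact (mem_conjOrbit K).2 ⟨g', hg'⟩
  let bar : {f // f ∈ conjOrbit K (θ : K → ℂ)} → {f // f ∈ conjOrbit K (θ : K → ℂ)} :=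
    fun f => ⟨_, hbar f⟩
  have hbar2 : Function.Involutive bar := fun f => Subtype.ext (funext fun k => Complex.conj_conj _)
  obtain ⟨⟨f, hf⟩, hfix⟩ := exists_fixed_of_odd (X := {f // f ∈ conjOrbit K (θ : K → ℂ)}) (by
      rw [Nat.card_eq_fintype_card, Fintype.card_coe, card_conjOrbit]
      exact hodd.of_dvd_nat (Subgroup.index_dvd_of_le (le_inertia K (IsIrr.classFun θ.2))))
    hbar2.toPerm (j := 1) (by
      ext f : 1
      rw [pow_one, sq, Equiv.Perm.mul_apply, Equiv.Perm.one_apply]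
      exact hbar2 f)
  obtain ⟨g, rfl⟩ := (mem_conjOrbit K).1 hf
  refine ⟨⟨_, IsIrr.conjN K θ.2 g⟩, ?_, fun k => congrFun (congrArg Subtype.val hfix) k⟩
  rw [classInner_res_conjN K (IsIrr.classFun hχ)]
  exact hθ

end OddIndex

end Cfsg.Agent.Block.RealP
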