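import Cfsg.Agent.Lib.Block.RealPPrime.Basic
import Cfsg.Agent.Lib.Block.RealOver
import Cfsg.Agent.Lib.Char.CliffordCorr
import Cfsg.Agent.Lib.Grp.Solvable
import Cfsg.Agent.Lib.Grp.Basic

/-!
Groups whose real characters have degree prime to `p`: the Sylow `p`-subgroup of a normal
`p`-extension of the subgroup generated by the `2`-elements is normal.
-/

set_option autoImplicit false

namespace Cfsg.Agent.Block.RealP

open scoped ComplexConjugate
open Cfsg Cfsg.Agent.Char

universe u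

section Induced

variable {K : Type u} [Group K] [Fintype K] (N : Subgroup K) [N.Normal] [Fintype N]

/-- A linear character that is conjugate to its inverse gives a real character above it. -/
theorem exists_real_over_linear (hcomm : ∀ a ∈ N, ∀ b ∈ N, a * b = b * a) (H : Subgroup K)
    (hinf : N ⊓ H = ⊥) (hdec : ∀ k : K, ∃ n ∈ N, ∃ h ∈ H, k = n * h)
    (l : N →* ℂˣ) (t : K) (ht : t ∈ H)
    (hl : ∀ n : N, (l (MulAut.conjNormal t n) : ℂ) = ((l n : ℂˣ) : ℂ)⁻¹) :
    ∃ φ : IrrCharacter K, (∀ k, conj ((φ : K → ℂ) k) = (φ : K → ℂ) k) ∧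
      classInner (fun n : N => (φ : K → ℂ) n) (fun n : N => (l n : ℂ)) ≠ 0 ∧
      (φ : K → ℂ) 1 = ((inertia N (fun n : N => (l n : ℂ))).index : ℂ) := by
  classical
  set θ : N → ℂ := fun n => (l n : ℂ) with hθdef
  have hθ : IsIrrCharacter N θ := isIrr_linear l
  set T := inertia N θ with hT
  have hNT : N ≤ T := le_inertia N (IsIrr.classFun hθ)
  letI : Fintype T := Fintype.ofFinite _
  choose nn hnn hh hhh hkk using hdec
  have huniq : ∀ {a b c d : K}, a ∈ N → c ∈ N → b ∈ H → d ∈ H → a * b = c * d → a = c := by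
    intro a b c d ha hc hb hd e
    have h1 : c⁻¹ * a ∈ N ⊓ H := by
      refine ⟨N.mul_mem (N.inv_mem hc) ha, ?_⟩
      have h2 : c⁻¹ * a = d * b⁻¹ := by
        calc c⁻¹ * a = c⁻¹ * (a * b) * b⁻¹ := by group
          _ = c⁻¹ * (c * d) * b⁻¹ := by rw [e]
          _ = _ := by group
      rw [h2]; exact H.mul_mem hd (H.inv_mem hb)
    rw [hinf, Subgroup.mem_bot] at h1
    exact (inv_mul_eq_one.1 h1).symm
  let N' : K → N := fun k => ⟨nn k, hnn k⟩
  have hN'n : ∀ n : N, N' n = n := fun n => Subtype.ext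
    (huniq (hnn n) n.2 (hhh n) H.one_mem (by rw [← hkk, mul_one]))
  have hN'H : ∀ h ∈ H, N' h = 1 := fun h hh' => Subtype.ext
    (huniq (hnn h) N.one_mem (hhh h) hh' (by rw [← hkk, Subgroup.coe_one, one_mul]))
  -- the extension to the inertia group
  have hstab : ∀ a ∈ T, ∀ n : N, l (MulAut.conjNormal a n) = l n := by
    intro a ha n
    have h := congrFun ((mem_inertia N).1 ha) n
    refine Units.ext ?_
    rw [conjN_eq_comp] at h
    exact h
  have hconjh : ∀ a ∈ T, ∀ n : N, l (MulAut.conjNormal (hh a) n) = l n := by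
    intro a ha n
    have e : hh a = (nn a)⁻¹ * a := by
      conv_rhs => arg 2; rw [hkk a]
      rw [inv_mul_cancel_left]
    have h1 : (nn a)⁻¹ ∈ T := hNT (inv_mem (hnn a))
    rw [e]
    exact hstab _ (mul_mem h1 ha) n
  have hmul : ∀ a b : T, l (N' ((a * b : T) : K)) = l (N' a) * l (N' b) := by
    intro a b
    have e : N' ((a * b : T) : K) = N' a * MulAut.conjNormal (hh (a : K)) (N' b) := by
      refine Subtype.ext (huniq (hnn _) (mul_mem (hnn _) (MulAut.conjNormal (hh (a : K)) (N' b)).2)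
        (hhh ((a * b : T) : K)) (mul_mem (hhh (a : K)) (hhh (b : K))) ?_)
      rw [← hkk, Subgroup.coe_mul T, Subgroup.coe_mul N, MulAut.conjNormal_apply]
      show (a : K) * b = _
      conv_lhs => rw [hkk (a : K), hkk (b : K)]
      show _ = nn (a : K) * (hh (a : K) * nn (b : K) * (hh (a : K))⁻¹) * (hh (a : K) * hh (b : K))
      group
    rw [e, map_mul, hconjh _ a.2]
  let lT : T →* ℂˣ := MonoidHom.mk' (fun a => l (N' a)) hmul
  set ψ : T → ℂ := fun a => (lT a : ℂ) with hψdef
  have hψ : IsIrrCharacter T ψ := isIrr_linear lT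
  have hres : (fun n : N => ψ ⟨(n : K), hNT n.2⟩) = θ := by
    funext n
    show ((l (N' n) : ℂˣ) : ℂ) = _
    rw [hN'n]
  obtain ⟨hirr, -⟩ := Corr.indFun_irr N hθ hT hNT hψ (by rw [hres, classInner_self_irr hθ]; exact one_ne_zero)
  -- reality
  have hlconj : ∀ n : N, conj (θ n) = θ n⁻¹ := fun n => (IsIrr.apply_inv hθ n).symm
  have hTt : ∀ y : K, y ∈ T → t * y * t⁻¹ ∈ T := by
    intro y hy
    rw [mem_inertia]
    have hθt : conjN N t θ = fun n => conj (θ n) := by
      funext n
      rw [conjN_eq_comp, hlconj]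
      show (l (MulAut.conjNormal t n) : ℂ) = (l n⁻¹ : ℂ)
      rw [hl, map_inv, Units.val_inv_eq_inv_val]
    have hinv : conjN N y (fun n => conj (θ n)) = fun n => conj (θ n) := by
      funext n
      exact congrArg conj (congrFun ((mem_inertia N).1 hy) n)
    rw [conjN_mul, conjN_mul, hθt, hinv, ← hθt, conjN_inv_cancel]
  have hTt' : ∀ y : K, t * y * t⁻¹ ∈ T → y ∈ T := by
    intro y hy
    -- conjugation is a bijection of the finite set
    let f : T → T := fun z => ⟨_, hTt z z.2⟩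
    have hf : Function.Injective f := fun a b e => Subtype.ext (by simpa [f] using congrArg Subtype.val e)
    obtain ⟨z, hz⟩ := Finite.surjective_of_injective hf ⟨_, hy⟩
    have e : (z : K) = y := by simpa [f] using congrArg Subtype.val hz
    exact e ▸ z.2
  have hext : ∀ y : K, extendByZero T ψ (t * y * t⁻¹) = conj (extendByZero T ψ y) := by
    intro y
    by_cases hy : y ∈ T
    · rw [extendByZero_of_mem _ (hTt y hy), extendByZero_of_mem _ hy]
      have e : N' (t * y * t⁻¹) = MulAut.conjNormal t (N' y) := by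
        refine Subtype.ext (huniq (hnn _) (MulAut.conjNormal t (N' y)).2 (hhh (t * y * t⁻¹))
          (mul_mem (mul_mem ht (hhh y)) (inv_mem ht)) ?_)
        rw [← hkk, MulAut.conjNormal_apply]
        show t * y * t⁻¹ = (t * nn y * t⁻¹) * _
        conv_lhs => rw [hkk y]
        group
      show ((l (N' (t * y * t⁻¹)) : ℂˣ) : ℂ) = conj (θ (N' y))
      rw [e, hlconj]
      show _ = ((l (N' y)⁻¹ : ℂˣ) : ℂ)
      rw [hl, map_inv, Units.val_inv_eq_inv_val]
    · rw [extendByZero_not_mem _ hy, extendByZero_not_mem _ (fun h => hy (hTt' y h)), map_zero]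
  refine ⟨⟨indFun T ψ, hirr⟩, fun k => ?_, ?_, ?_⟩
  · show conj (indFun T ψ k) = indFun T ψ k
    rw [indFun, map_mul, map_inv₀, map_natCast, map_sum]
    congr 1
    refine Fintype.sum_equiv (Equiv.mulRight t⁻¹) _ _ fun x => ?_
    show _ = extendByZero T ψ ((x * t⁻¹)⁻¹ * k * (x * t⁻¹))
    rw [show (x * t⁻¹)⁻¹ * k * (x * t⁻¹) = t * (x⁻¹ * k * x) * t⁻¹ by group, hext]
  · intro h0
    obtain ⟨-, h2, -⟩ := Corr.core N hθ hT hNT hψ (by rw [hres, classInner_self_irr hθ]; exact one_ne_zero)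
      hirr (by
        have h := classInner_self_irr hirr
        rw [classInner_indFun T ψ (IsIrr.classFun hirr), ← classInner_conj_symm] at h
        intro e
        rw [e, map_zero] at h
        exact zero_ne_one h)
    rw [hres, classInner_self_irr hθ] at h2
    exact one_ne_zero (h2.trans h0)
  · show indFun T ψ 1 = _
    rw [indFun_one_eq, hψdef]
    simp [← hT]

end Induced

section Main

variable {G : Type u} [Group G] [Finite G]

/-- The subgroup generated by the `p`-elements. -/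
abbrev pGen (p : ℕ) (G : Type u) [Group G] : Subgroup G :=
  Subgroup.closure {g : G | ∃ k : ℕ, orderOf g = p ^ k}

theorem mem_twoGen {g : G} {k : ℕ} (h : g ^ 2 ^ k = 1) : g ∈ twoGen G := by
  obtain ⟨i, -, hi⟩ := (Nat.dvd_prime_pow Nat.prime_two).1 (orderOf_dvd_of_pow_eq_one h)
  exact Subgroup.subset_closure ⟨i, hi⟩

theorem gen_normal (p : ℕ) : (Subgroup.closure {g : G | ∃ k : ℕ, orderOf g = p ^ k}).Normal := by
  refine Subgroup.Normal.mk fun x hx g => ?_
  induction hx using Subgroup.closure_induction with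
  | mem y hy => exact Subgroup.subset_closure (by
      obtain ⟨k, hk⟩ := hy; exact ⟨k, (MulEquiv.orderOf_eq (MulAut.conj g) y).trans hk⟩)
  | one => simp
  | mul a b _ _ ha hb => rw [show g * (a * b) * g⁻¹ = (g * a * g⁻¹) * (g * b * g⁻¹) by group]; exact mul_mem ha hb
  | inv a _ ha => rw [show g * a⁻¹ * g⁻¹ = (g * a * g⁻¹)⁻¹ by group]; exact inv_mem ha

theorem odd_index_twoGen : Odd (twoGen G).index := by
  haveI : (twoGen G).Normal := gen_normal 2
  rw [← Nat.not_even_iff_odd, even_iff_two_dvd, Subgroup.index_eq_card]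
  intro h2
  obtain ⟨c, hc⟩ := exists_prime_orderOf_dvd_card' (G := G ⧸ twoGen G) 2 h2
  obtain ⟨g, rfl⟩ := QuotientGroup.mk_surjective c
  obtain ⟨k, o, ⟨i, hi⟩, he⟩ := Nat.exists_eq_two_pow_mul_odd (orderOf_pos g).ne'
  have hm : g ^ o ∈ twoGen G := mem_twoGen (k := k) (by rw [← pow_mul, mul_comm, ← he, pow_orderOf_eq_one])
  have h1 : ((g : G ⧸ twoGen G)) ^ o = 1 := by
    rw [← QuotientGroup.mk_pow]; exact (QuotientGroup.eq_one_iff _).2 hm
  have h3 : 2 ∣ o := hc ▸ orderOf_dvd_of_pow_eq_one h1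
  omega

theorem gen_map_quotient (p : ℕ) [Fact p.Prime] (N : Subgroup G) [N.Normal] :
    Subgroup.closure {g : G ⧸ N | ∃ k : ℕ, orderOf g = p ^ k} ≤
      (Subgroup.closure {g : G | ∃ k : ℕ, orderOf g = p ^ k}).map (QuotientGroup.mk' N) := by
  rw [Subgroup.closure_le]
  rintro c ⟨k, hk⟩
  obtain ⟨g, rfl⟩ := QuotientGroup.mk_surjective c
  set v := (orderOf g).factorization p
  set o := orderOf g / p ^ v with ho
  have he : p ^ v * o = orderOf g := Nat.ordProj_mul_ordCompl_eq_self _ _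
  have hco : Nat.Coprime o (p ^ k) :=
    ((Nat.coprime_ordCompl (Fact.out : p.Prime) (orderOf_pos g).ne').symm).pow_right k
  obtain ⟨e, he'⟩ := exists_pow_eq_self_of_coprime (x := (g : G ⧸ N)) (hk.symm ▸ hco)
  refine ⟨(g ^ o) ^ e, Subgroup.pow_mem _ (Subgroup.subset_closure ?_) e, ?_⟩
  · refine Set.mem_setOf.2 ?_
    have h1 : (g ^ o) ^ p ^ v = 1 := by rw [← pow_mul, mul_comm, he, pow_orderOf_eq_one]
    obtain ⟨i, -, hi⟩ := (Nat.dvd_prime_pow (Fact.out : p.Prime)).1 (orderOf_dvd_of_pow_eq_one h1)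
    exact ⟨i, hi⟩
  · show ((((g ^ o) ^ e : G)) : G ⧸ N) = _
    rw [QuotientGroup.mk_pow, QuotientGroup.mk_pow, he']

theorem realPPrime_quotient {p : ℕ} (h : RealPPrime p G) (N : Subgroup G) [N.Normal] :
    RealPPrime p (G ⧸ N) := by
  intro χ hχ
  have := h ⟨_, IsIrr.comp_surjective (QuotientGroup.mk' N) (QuotientGroup.mk'_surjective N) χ.2⟩
    (fun g => hχ _)
  have e : charDegree (fun g : G => (χ : (G ⧸ N) → ℂ) (QuotientGroup.mk' N g)) =
      charDegree (χ : (G ⧸ N) → ℂ) := by simp [charDegree]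
  rwa [e] at this

/-- The index `[U : U ⊓ I]` divides the index of `I` when `U` is normal. -/
theorem relIndex_dvd_index (U I : Subgroup G) [U.Normal] : I.relIndex U ∣ I.index := by
  have h1 : U.relIndex (U ⊔ I) = U.relIndex I := Subgroup.relIndex_sup_left I U
  have h2 := Subgroup.relIndex_mul_relIndex (U ⊓ I) U (U ⊔ I) inf_le_left le_sup_left
  have h3 := Subgroup.relIndex_mul_relIndex (U ⊓ I) I (U ⊔ I) inf_le_right le_sup_right
  rw [h1] at h2
  rw [← h2, Subgroup.inf_relIndex_left, Subgroup.inf_relIndex_right, mul_comm (I.relIndex U)] at h3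
  rw [← mul_left_cancel₀ (Nat.card_pos (α := I ⧸ U.subgroupOf I)).ne' h3]
  exact Subgroup.relIndex_dvd_index_of_le le_sup_right

set_option maxHeartbeats 400000 in
theorem exists_normal_sylow (p : ℕ) [hp : Fact p.Prime] : ∀ (n : ℕ) (G : Type u) [Group G] [Finite G],
    Nat.card G ≤ n → RealPPrime p G → Group.IsSolvable (pGen p G) → ∀ U : Subgroup G, U.Normal →
      twoGen G ≤ U → (∀ u ∈ U, ∃ a : ℕ, u ^ p ^ a ∈ twoGen G) →
      ∃ Q : Subgroup G, Q.Normal ∧ Q ≤ U ∧ IsPGroup p Q ∧ ¬ p ∣ Q.relIndex U := by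
  intro n
  induction n with
  | zero =>
    intro G _ _ hn
    have := Nat.card_pos (α := G)
    omega
  | succ n ih =>
    intro G _ _ hn hreal hsolv U hU hKU hUp
    classical
    by_cases hU0 : U = ⊥
    · refine ⟨⊥, inferInstance, bot_le, IsPGroup.of_bot, ?_⟩
      rw [hU0, Subgroup.relIndex_self]
      exact hp.out.one_lt.ne' ∘ Nat.dvd_one.1
    obtain ⟨N, hN, hN0, hNU, hmin⟩ := Cfsg.Agent.Grp.exists_minimal_normal_le (N := U) hU0
    haveI := hN
    set π := QuotientGroup.mk' N with hπ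
    have hπs : Function.Surjective π := QuotientGroup.mk'_surjective N
    haveI : (twoGen G).Normal := gen_normal 2
    haveI : (pGen p G).Normal := gen_normal p
    obtain ⟨Q₁, hQ₁n, hQ₁le, hQ₁p, hQ₁i⟩ := ih (G ⧸ N)
      (by have := Cfsg.Agent.Grp.card_quotient_lt hN0; omega) (realPPrime_quotient hreal N)
      (by
        haveI := hsolv
        refine Cfsg.Agent.Grp.isSolvable_of_le (gen_map_quotient p N) ?_
        exact Group.isSolvable_of_surjective (π.subgroupMap_surjective (pGen p G)))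
      (U.map π) (hU.map π hπs)
      (by
        haveI : Fact (Nat.Prime 2) := ⟨Nat.prime_two⟩
        exact (gen_map_quotient 2 N).trans (Subgroup.map_mono hKU))
      (by
        rintro _ ⟨u, hu, rfl⟩
        obtain ⟨a, ha⟩ := hUp u hu
        refine ⟨a, ?_⟩
        rw [← map_pow]
        have hle : (twoGen G).map π ≤ twoGen (G ⧸ N) := by
          rw [Subgroup.map_le_iff_le_comap, Subgroup.closure_le]
          rintro g ⟨k, hk⟩
          exact mem_twoGen (k := k) (by rw [← map_pow, ← hk, pow_orderOf_eq_one, map_one])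
        exact hle ⟨_, ha, rfl⟩)
    set W := Q₁.comap π with hW
    haveI hWn : W.Normal := hQ₁n.comap π
    have hNW : N ≤ W := fun x hx => by
      show π x ∈ Q₁
      rw [show π x = 1 from (QuotientGroup.eq_one_iff x).2 hx]
      exact Q₁.one_mem
    have hWU : W ≤ U := by
      refine (Subgroup.comap_mono hQ₁le).trans ?_
      rw [Subgroup.comap_map_eq, QuotientGroup.ker_mk']
      exact sup_le le_rfl hNU
    have hWi : ¬ p ∣ W.relIndex U := by
      rwa [hW, Subgroup.relIndex_comap]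
    -- a Sylow subgroup of `W`
    obtain ⟨P₀⟩ := (inferInstance : Nonempty (Sylow p W))
    set P : Subgroup G := (P₀ : Subgroup W).map W.subtype with hP
    have hPW : P ≤ W := Subgroup.map_subtype_le _
    have hPp : IsPGroup p P := P₀.isPGroup'.map _
    have hPi : ¬ p ∣ P.relIndex U := by
      rw [← Subgroup.relIndex_mul_relIndex P W U hPW hWU]
      intro h
      rcases hp.out.dvd_mul.1 h with h | h
      · refine P₀.not_dvd_index ?_
        rwa [Subgroup.relIndex, hP, Subgroup.subgroupOf, Subgroup.comap_map_eq_self_of_injective W.subtype_injective] at h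
      · exact hWi h
    suffices hPn : P.Normal from ⟨P, hPn, hPW.trans hWU, hPp, hPi⟩
    have hWprod : ∀ w ∈ W, ∃ a ∈ N, ∃ x ∈ P, w = a * x := by
      intro w hw
      -- the index of `N ⊔ P` in `W` is prime to `p` and divides a power of `p`
      have hNP : N ⊔ P = W := by
        refine le_antisymm (sup_le hNW hPW) ?_
        have hd1 : (N ⊔ P).relIndex W ∣ P.relIndex W := Subgroup.relIndex_dvd_of_le_left W le_sup_right
        have hd2 : (N ⊔ P).relIndex W ∣ N.relIndex W := Subgroup.relIndex_dvd_of_le_left W le_sup_left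
        have hpd : ¬ p ∣ P.relIndex W := fun h => hPi (by
          rw [← Subgroup.relIndex_mul_relIndex P W U hPW hWU]; exact h.mul_right _)
        obtain ⟨i, hi⟩ := IsPGroup.iff_card.1 hQ₁p
        have hNi : N.relIndex W = p ^ i := by
          rw [show N = (⊥ : Subgroup (G ⧸ N)).comap π by rw [MonoidHom.comap_bot, QuotientGroup.ker_mk'],
            Subgroup.relIndex_comap, hW, Subgroup.map_comap_eq_self_of_surjective hπs,
            Subgroup.relIndex_bot_left, hi]
        rw [hNi] at hd2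
        obtain ⟨j, -, hj⟩ := (Nat.dvd_prime_pow hp.out).1 hd2
        refine Subgroup.relIndex_eq_one.1 ?_
        rcases Nat.eq_zero_or_pos j with rfl | hj0
        · rw [hj, pow_zero]
        · exact absurd ((dvd_pow_self p hj0.ne').trans (hj ▸ hd1)) hpd
      rw [← hNP, Subgroup.mem_sup_of_normal_left] at hw
      · obtain ⟨a, ha, x, hx, rfl⟩ := hw
        exact ⟨a, ha, x, hx, rfl⟩
    by_cases hNp : IsPGroup p N
    · -- `W` is a `p`-group
      have hWp : IsPGroup p W := by
        intro w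
        obtain ⟨a, ha⟩ := hQ₁p ⟨π w, w.2⟩
        have hwa : (w : G) ^ p ^ a ∈ N := by
          rw [← QuotientGroup.eq_one_iff]
          exact congrArg Subtype.val ha
        obtain ⟨b, hb⟩ := hNp ⟨_, hwa⟩
        exact ⟨a + b, Subtype.ext (by
          rw [SubmonoidClass.coe_pow, pow_add, pow_mul]
          exact congrArg Subtype.val hb)⟩
      have hPW' : P = W := le_antisymm hPW (by
        intro w hw
        have htop : (P₀ : Subgroup W) = ⊤ :=
          (P₀.is_maximal' (IsPGroup.to_le (hWp.of_equiv (Subgroup.topEquiv).symm) le_rfl) le_top).symm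
        exact ⟨⟨w, hw⟩, by rw [htop]; trivial, rfl⟩)
      rw [hPW']; exact hWn
    have hNK : N ≤ twoGen G := by
      rcases hmin (N ⊓ twoGen G) inferInstance inf_le_left with h | h
      · exfalso
        refine hNp fun x => ?_
        obtain ⟨a, ha⟩ := hUp x (hNU x.2)
        refine ⟨a, Subtype.ext ?_⟩
        have hm : (x : G) ^ p ^ a ∈ N ⊓ twoGen G := ⟨pow_mem x.2 _, ha⟩
        rw [h, Subgroup.mem_bot] at hm
        exact hm
      · exact h ▸ inf_le_right
    -- if `P` centralises `N`, it is normal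
    have hcentral : (∀ a ∈ N, ∀ x ∈ P, a * x = x * a) → P.Normal := by
      intro hc
      have hN' : ¬ p ∣ Nat.card N ∨ (∀ a ∈ N, ∀ b ∈ N, a * b = b * a) := by
        by_cases h : N ⊓ pGen p G = ⊥
        · left
          intro hd
          obtain ⟨a, ha⟩ := exists_prime_orderOf_dvd_card' (G := N) p hd
          have hm : (a : G) ∈ N ⊓ pGen p G := ⟨a.2, Subgroup.subset_closure ⟨1, by rw [pow_one, Subgroup.orderOf_coe, ha]⟩⟩
          rw [h, Subgroup.mem_bot] at hm
          have : a = 1 := Subtype.ext hm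
          rw [this, orderOf_one] at ha
          exact hp.out.one_lt.ne ha
        · right
          rcases hmin (N ⊓ pGen p G) inferInstance inf_le_left with h' | h'
          · exact absurd h' h
          · obtain ⟨hab, -⟩ := Cfsg.Agent.Grp.minimal_normal_solvable
              (Cfsg.Agent.Grp.isSolvable_of_le (h' ▸ inf_le_right) hsolv) hN0 hmin
            exact fun a ha b hb => congrArg Subtype.val (mul_comm' (⟨a, ha⟩ : N) ⟨b, hb⟩)
      have hNcop : ∀ a ∈ N, ∀ k : ℕ, a ^ p ^ k = 1 → a = 1 := by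
        intro a ha k hk
        rcases hN' with hd | hab
        · obtain ⟨i, -, hi⟩ := (Nat.dvd_prime_pow hp.out).1 (orderOf_dvd_of_pow_eq_one hk)
          rcases Nat.eq_zero_or_pos i with rfl | hi0
          · exact orderOf_eq_one_iff.1 (by rw [hi, pow_zero])
          · exact absurd ((hi ▸ dvd_pow_self p hi0.ne').trans (Subgroup.orderOf_dvd_natCard N ha)) hd
        · -- the elements of `p`-power order form a normal subgroup of `N`
          let D : Subgroup G :=
            { carrier := {x | x ∈ N ∧ ∃ j : ℕ, x ^ p ^ j = 1}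
              one_mem' := ⟨N.one_mem, 0, one_pow _⟩
              mul_mem' := fun {x y} hx hy => ⟨N.mul_mem hx.1 hy.1, by
                obtain ⟨i, hi⟩ := hx.2
                obtain ⟨j, hj⟩ := hy.2
                exact ⟨i + j, by
                  rw [(show Commute x y from hab x hx.1 y hy.1).mul_pow, pow_add, pow_mul, hi,
                    one_pow, one_mul, mul_comm, pow_mul, hj, one_pow]⟩⟩
              inv_mem' := fun {x} hx => ⟨N.inv_mem hx.1, by
                obtain ⟨i, hi⟩ := hx.2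
                exact ⟨i, by rw [inv_pow, hi, inv_one]⟩⟩ }
          have hDn : D.Normal := ⟨fun x hx g => ⟨hN.conj_mem x hx.1 g, by
            obtain ⟨i, hi⟩ := hx.2
            exact ⟨i, by rw [conj_pow, hi, mul_one, mul_inv_cancel]⟩⟩⟩
          rcases hmin D hDn (fun x hx => hx.1) with h | h
          · have : a ∈ D := ⟨ha, k, hk⟩
            rwa [h, Subgroup.mem_bot] at this
          · refine absurd (fun x => ?_) hNp
            obtain ⟨j, hj⟩ := (h.ge x.2).2
            exact ⟨j, Subtype.ext hj⟩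
      refine ⟨fun x hx g => ?_⟩
      obtain ⟨a, ha, y, hy, e⟩ := hWprod _ (hWn.conj_mem x (hPW hx) g)
      obtain ⟨i, hi⟩ := hPp ⟨x, hx⟩
      obtain ⟨j, hj⟩ := hPp ⟨y, hy⟩
      have hi' : x ^ p ^ i = 1 := congrArg Subtype.val hi
      have hj' : y ^ p ^ j = 1 := congrArg Subtype.val hj
      have h0 : (g * x * g⁻¹) ^ p ^ (i + j) = 1 := by
        rw [conj_pow, pow_add, pow_mul, hi', one_pow, mul_one, mul_inv_cancel]
      rw [e, (show Commute a y from hc a ha y hy).mul_pow] at h0
      have h1 : y ^ p ^ (i + j) = 1 := by rw [pow_add, mul_comm, pow_mul, hj', one_pow]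
      rw [h1, mul_one] at h0
      rw [e, hNcop a ha _ h0, one_mul]
      exact hy
    -- otherwise `N` lies in the subgroup of the `p`-elements
    rcases hmin (N ⊓ pGen p G) inferInstance inf_le_left with hNG | hNG
    · refine hcentral fun a ha x hx => ?_
      have hxG : x ∈ pGen p G := by
        obtain ⟨i, hi⟩ := hPp ⟨x, hx⟩
        obtain ⟨j, -, hj⟩ := (Nat.dvd_prime_pow hp.out).1
          (orderOf_dvd_of_pow_eq_one (show x ^ p ^ i = 1 from congrArg Subtype.val hi))
        exact Subgroup.subset_closure ⟨j, hj⟩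
      have hm : a * x * a⁻¹ * x⁻¹ ∈ N ⊓ pGen p G := by
        refine ⟨?_, (pGen p G).mul_mem ((gen_normal p).conj_mem x hxG a) ((pGen p G).inv_mem hxG)⟩
        rw [show a * x * a⁻¹ * x⁻¹ = a * (x * a⁻¹ * x⁻¹) by group]
        exact N.mul_mem ha (hN.conj_mem _ (N.inv_mem ha) x)
      rw [hNG, Subgroup.mem_bot] at hm
      calc a * x = (a * x * a⁻¹ * x⁻¹) * (x * a) := by group
        _ = x * a := by rw [hm, one_mul]
    obtain ⟨habN, -⟩ := Cfsg.Agent.Grp.minimal_normal_solvable
      (Cfsg.Agent.Grp.isSolvable_of_le (hNG ▸ inf_le_right) hsolv) hN0 hmin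
    have hab : ∀ a ∈ N, ∀ b ∈ N, a * b = b * a := fun a ha b hb =>
      congrArg Subtype.val (mul_comm' (⟨a, ha⟩ : N) ⟨b, hb⟩)
    -- conjugates of `P`
    have hconj : ∀ g : G, ∃ a ∈ N, ∀ x ∈ P, (a⁻¹ * g) * x * (a⁻¹ * g)⁻¹ ∈ P := by
      intro g
      let c : W ≃* W := MulAut.conjNormal g
      let P₁ : Sylow p W := P₀.comapOfInjective c.symm.toMonoidHom c.symm.injective (by
        rw [MonoidHom.range_eq_top_of_surjective _ c.symm.surjective]; exact le_top)
      obtain ⟨w, hw⟩ := MulAction.exists_smul_eq W P₀ P₁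
      obtain ⟨a, ha, y, hy, e⟩ := hWprod w w.2
      refine ⟨a, ha, fun x hx => ?_⟩
      obtain ⟨x', hx', rfl⟩ := hx
      have hmem : (c x' : W) ∈ (P₁ : Subgroup W) := by
        show c.symm (c x') ∈ (P₀ : Subgroup W)
        rw [c.symm_apply_apply]; exact hx'
      rw [← hw, Sylow.coe_subgroup_smul, Subgroup.mem_smul_pointwise_iff_exists] at hmem
      obtain ⟨z, hz, hze⟩ := hmem
      have e1 : (w : G) * z * (w : G)⁻¹ = g * x' * g⁻¹ := by
        have h := congrArg Subtype.val hze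
        simp only [MulAut.smul_def, MulAut.conj_apply, Subgroup.coe_mul, Subgroup.coe_inv,
          MulAut.conjNormal_apply, c] at h
        exact h
      rw [show (a⁻¹ * g) * W.subtype x' * (a⁻¹ * g)⁻¹ = a⁻¹ * (g * x' * g⁻¹) * a by simp [mul_assoc],
        ← e1, e, show a⁻¹ * (a * y * (z : G) * (a * y)⁻¹) * a = y * z * y⁻¹ by group]
      exact mul_mem (mul_mem hy ⟨z, hz, rfl⟩) (inv_mem hy)
    -- the fixed points of `P` in `N`
    by_cases hC : ∀ a ∈ N, ∀ x ∈ P, a * x = x * a
    · exact hcentral hC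
    have hC0 : ∀ a ∈ N, (∀ x ∈ P, a * x = x * a) → a = 1 := by
      let C : Subgroup G := N ⊓ Subgroup.centralizer (P : Set G)
      have hCn : C.Normal := ⟨fun c hc g => by
        refine ⟨hN.conj_mem c hc.1 g, Subgroup.mem_centralizer_iff.2 fun x hx => ?_⟩
        obtain ⟨a, ha, hax⟩ := hconj g⁻¹
        have h1 := Subgroup.mem_centralizer_iff.1 hc.2 _ (hax x hx)
        have e1 : (a⁻¹ * g⁻¹) * x * (a⁻¹ * g⁻¹)⁻¹ = a⁻¹ * (g⁻¹ * x * g) * a := by group
        rw [e1] at h1
        have h2 : a * c = c * a := hab a ha c hc.1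
        have h3 : (g⁻¹ * x * g) * c = c * (g⁻¹ * x * g) := by
          calc (g⁻¹ * x * g) * c = a * (a⁻¹ * (g⁻¹ * x * g) * a * (a⁻¹ * c * a)) * a⁻¹ := by group
            _ = a * (a⁻¹ * (g⁻¹ * x * g) * a * c) * a⁻¹ := by
                rw [show a⁻¹ * c * a = c by rw [mul_assoc, ← h2, inv_mul_cancel_left]]
            _ = a * (c * (a⁻¹ * (g⁻¹ * x * g) * a)) * a⁻¹ := by rw [h1]
            _ = (a * c * a⁻¹) * (g⁻¹ * x * g) := by group
            _ = c * (g⁻¹ * x * g) := by rw [h2, mul_inv_cancel_right]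
        calc x * (g * c * g⁻¹) = g * ((g⁻¹ * x * g) * c) * g⁻¹ := by group
          _ = g * (c * (g⁻¹ * x * g)) * g⁻¹ := by rw [h3]
          _ = g * c * g⁻¹ * x := by group⟩
      intro a ha hax
      rcases hmin C hCn inf_le_left with h | h
      · have : a ∈ C := ⟨ha, Subgroup.mem_centralizer_iff.2 fun x hx => (hax x hx).symm⟩
        rwa [h, Subgroup.mem_bot] at this
      · exact absurd (fun a' ha' x hx => (Subgroup.mem_centralizer_iff.1 ((h ▸ ha' : a' ∈ C)).2 x hx).symm) hC
    -- the normaliser of `P` is a complement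
    set H := Subgroup.normalizer (P : Set G) with hH
    have hdec : ∀ g : G, ∃ a ∈ N, ∃ h ∈ H, g = a * h := by
      intro g
      obtain ⟨a, ha, hax⟩ := hconj g
      refine ⟨a, ha, a⁻¹ * g, ?_, by group⟩
      exact Subgroup.mem_normalizer_iff.2 fun x => ⟨hax x, fun hx => by
        -- the map is onto
        let f : P → P := fun y => ⟨_, hax y y.2⟩
        have hf : Function.Injective f := fun u v e => Subtype.ext (by simpa [f] using congrArg Subtype.val e)
        obtain ⟨y, hy⟩ := Finite.surjective_of_injective hf ⟨_, hx⟩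
        have : (y : G) = x := by simpa [f] using congrArg Subtype.val hy
        exact this ▸ y.2⟩
    have hNH : ∀ a ∈ N, a ∈ H → a = 1 := by
      intro a ha haH
      refine hC0 a ha fun x hx => ?_
      have h1 : a * x * a⁻¹ * x⁻¹ ∈ P := mul_mem ((Subgroup.mem_normalizer_iff.1 haH x).1 hx) (inv_mem hx)
      have h2 : a * x * a⁻¹ * x⁻¹ ∈ N := by
        rw [show a * x * a⁻¹ * x⁻¹ = a * (x * a⁻¹ * x⁻¹) by group]
        exact mul_mem ha (hN.conj_mem _ (inv_mem ha) x)
      have h3 : a * x * a⁻¹ * x⁻¹ = 1 := by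
        by_contra hne
        obtain ⟨i, hi⟩ := hPp ⟨_, h1⟩
        have hi' : (a * x * a⁻¹ * x⁻¹) ^ p ^ i = 1 := congrArg Subtype.val hi
        -- elements of `p`-power order of `N` are trivial
        let D : Subgroup G :=
          { carrier := {y | y ∈ N ∧ ∃ j : ℕ, y ^ p ^ j = 1}
            one_mem' := ⟨N.one_mem, 0, one_pow _⟩
            mul_mem' := fun {u v} hu hv => ⟨N.mul_mem hu.1 hv.1, by
              obtain ⟨i, hi⟩ := hu.2
              obtain ⟨j, hj⟩ := hv.2
              exact ⟨i + j, by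
                rw [(show Commute u v from hab u hu.1 v hv.1).mul_pow, pow_add, pow_mul, hi,
                  one_pow, one_mul, mul_comm, pow_mul, hj, one_pow]⟩⟩
            inv_mem' := fun {u} hu => ⟨N.inv_mem hu.1, by
              obtain ⟨i, hi⟩ := hu.2
              exact ⟨i, by rw [inv_pow, hi, inv_one]⟩⟩ }
        have hDn : D.Normal := ⟨fun u hu g => ⟨hN.conj_mem u hu.1 g, by
          obtain ⟨i, hi⟩ := hu.2
          exact ⟨i, by rw [conj_pow, hi, mul_one, mul_inv_cancel]⟩⟩⟩
        rcases hmin D hDn (fun u hu => hu.1) with h | h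
        · have : a * x * a⁻¹ * x⁻¹ ∈ D := ⟨h2, i, hi'⟩
          rw [h, Subgroup.mem_bot] at this
          exact hne this
        · refine hNp fun u => ?_
          obtain ⟨j, hj⟩ := (h.ge u.2).2
          exact ⟨j, Subtype.ext hj⟩
      calc a * x = (a * x * a⁻¹ * x⁻¹) * (x * a) := by group
        _ = x * a := by rw [h3, one_mul]
    -- the objects inside the subgroup of the `2`-elements
    set K := twoGen G with hKdef
    set N' := N.subgroupOf K with hN'
    set H' := H.subgroupOf K with hH'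
    haveI : N'.Normal := Subgroup.Normal.subgroupOf hN K
    letI : Fintype G := Fintype.ofFinite _
    letI : Fintype K := Fintype.ofFinite _
    letI : Fintype N' := Fintype.ofFinite _
    have hab' : ∀ u ∈ N', ∀ v ∈ N', u * v = v * u := fun u hu v hv => Subtype.ext (hab _ hu _ hv)
    have hab'' : ∀ u v : N', u * v = v * u := fun u v => Subtype.ext (hab' u u.2 v v.2)
    have hinf' : N' ⊓ H' = ⊥ := by
      rw [eq_bot_iff]
      rintro k ⟨h1, h2⟩
      exact Subtype.ext (hNH _ h1 h2)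
    have hdec' : ∀ k : K, ∃ a ∈ N', ∃ h ∈ H', k = a * h := by
      intro k
      obtain ⟨a, ha, h, hh, e⟩ := hdec k
      have hhK : h ∈ K := by
        rw [show h = a⁻¹ * (k : G) by rw [e, inv_mul_cancel_left]]
        exact mul_mem (inv_mem (hNK ha)) k.2
      exact ⟨⟨a, hNK ha⟩, ha, ⟨h, hhK⟩, hh, Subtype.ext e⟩
    obtain ⟨-, q, hq, hpow⟩ := Cfsg.Agent.Grp.minimal_normal_solvable
      (Cfsg.Agent.Grp.isSolvable_of_le (hNG ▸ inf_le_right) hsolv) hN0 hmin
    obtain ⟨l, t, htH, hl1, hl⟩ : ∃ (l : N' →* ℂˣ) (t : K), t ∈ H' ∧ l ≠ 1 ∧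
        ∀ u : N', (l (MulAut.conjNormal t u) : ℂ) = ((l u : ℂˣ) : ℂ)⁻¹ := by
      by_cases hq2 : q = 2
      · subst hq2
        obtain ⟨a, ha, ha1⟩ := (Subgroup.ne_bot_iff_exists_ne_one).1 hN0 |> fun ⟨x, hx⟩ =>
          (⟨x.1, x.2, fun e => hx (Subtype.ext e)⟩ : ∃ a, a ∈ N ∧ a ≠ 1)
        obtain ⟨l, hl⟩ : ∃ l : N' →* ℂˣ, l ⟨⟨a, hNK ha⟩, ha⟩ ≠ 1 := by
          by_contra hno
          push Not at hno
          exact ha1 (congrArg (fun u : N' => ((u : K) : G)) (eq_one_of_forall_linear hab'' hno))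
        refine ⟨l, 1, H'.one_mem, fun e => hl (by rw [e]; rfl), fun u => ?_⟩
        rw [map_one, MulAut.one_apply, ← Units.val_inv_eq_inv_val, ← map_inv]
        congr 2
        refine eq_inv_of_mul_eq_one_left (Subtype.ext (Subtype.ext ?_))
        show ((u : K) : G) * ((u : K) : G) = 1
        rw [← sq]; exact hpow _ u.2
      obtain ⟨t₀, k₀, ht₀K, ht₀2, hmove⟩ : ∃ (t : G) (k : ℕ), t ∈ twoGen G ∧ t ^ 2 ^ k = 1 ∧
          ¬ ∀ a ∈ N, t * a = a * t := by
        by_contra hcon
        push Not at hcon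
        have hKc : ∀ g ∈ twoGen G, ∀ a ∈ N, g * a = a * g := by
          intro g hg
          induction hg using Subgroup.closure_induction with
          | mem y hy =>
            obtain ⟨i, hi⟩ := hy
            exact hcon y i (Subgroup.subset_closure ⟨i, hi⟩) (hi ▸ pow_orderOf_eq_one y)
          | one => simp
          | mul u v _ _ hu hv =>
            intro a ha
            rw [mul_assoc, hv a ha, ← mul_assoc, hu a ha, mul_assoc]
          | inv u _ hu =>
            intro a ha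
            exact ((show Commute u a from hu a ha).inv_left).eq
        have hKH : twoGen G ≤ H := by
          rw [Subgroup.closure_le]
          rintro s ⟨i, hi⟩
          obtain ⟨a, ha, h, hh, e⟩ := hdec s
          have hah : a * h = h * a := by
            have h1 := hKc s (Subgroup.subset_closure ⟨i, hi⟩) a ha
            rw [e, mul_assoc] at h1
            exact (mul_left_cancel h1).symm
          have h2 : (a * h) ^ 2 ^ i = 1 := by rw [← e, ← hi, pow_orderOf_eq_one]
          rw [(show Commute a h from hah).mul_pow] at h2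
          have h3 : a ^ 2 ^ i ∈ H := by rw [eq_inv_of_mul_eq_one_left h2]; exact inv_mem (pow_mem hh _)
          have h4 := hNH _ (pow_mem ha _) h3
          have h5 : a = 1 := orderOf_eq_one_iff.1 (Nat.eq_one_of_dvd_coprimes
              (((Nat.coprime_primes hq Nat.prime_two).2 hq2).pow_right i)
              (orderOf_dvd_of_pow_eq_one (hpow a ha)) (orderOf_dvd_of_pow_eq_one h4))
          rw [SetLike.mem_coe, e, h5, one_mul]
          exact hh
        exact hN0 ((Subgroup.eq_bot_iff_forall N).2 fun a ha => hNH a ha (hKH (hNK ha)))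
      obtain ⟨a₀, ha₀, h₀, hh₀, e₀⟩ := hdec' ⟨t₀, ht₀K⟩
      have hact : (MulAut.conjNormal (⟨t₀, ht₀K⟩ : K) : MulAut N') = MulAut.conjNormal h₀ := by
        refine MulEquiv.ext fun u => Subtype.ext ?_
        rw [MulAut.conjNormal_apply, MulAut.conjNormal_apply, e₀]
        calc a₀ * h₀ * u * (a₀ * h₀)⁻¹ = a₀ * (h₀ * u * h₀⁻¹) * a₀⁻¹ := by group
          _ = (h₀ * u * h₀⁻¹) * a₀ * a₀⁻¹ := by
              rw [hab' a₀ ha₀ _ ((inferInstance : N'.Normal).conj_mem _ u.2 h₀)]
          _ = h₀ * u * h₀⁻¹ := mul_inv_cancel_right _ _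
      set α : MulAut N' := MulAut.conjNormal h₀ with hα
      have hαk : α ^ 2 ^ k₀ = 1 := by
        rw [← hact, ← map_pow, show (⟨t₀, ht₀K⟩ : K) ^ 2 ^ k₀ = 1 from Subtype.ext ht₀2, map_one]
      have hex : ∃ i, α ^ 2 ^ i = 1 := ⟨k₀, hαk⟩
      obtain ⟨i, hi⟩ : ∃ i, Nat.find hex = i + 1 := by
        refine Nat.exists_eq_succ_of_ne_zero fun h0 => hmove fun a ha => ?_
        have h := Nat.find_spec hex
        rw [h0, pow_zero, pow_one, ← hact] at h
        have h1 := congrArg (fun β : MulAut N' => (((β ⟨⟨a, hNK ha⟩, ha⟩ : N') : K) : G)) h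
        simp only [MulAut.conjNormal_apply, MulAut.one_apply, Subgroup.coe_mul, Subgroup.coe_inv] at h1
        calc t₀ * a = (t₀ * a * t₀⁻¹) * t₀ := by group
          _ = a * t₀ := by rw [h1]
      have hlt := Nat.find_min hex (show i < Nat.find hex by omega)
      have h2 := Nat.find_spec hex
      rw [hi, pow_succ, pow_mul, sq] at h2
      obtain ⟨a, ha⟩ : ∃ a, (α ^ 2 ^ i) a ≠ a := by
        by_contra hno
        push Not at hno
        exact hlt (MulEquiv.ext hno)
      obtain ⟨μ, hμ⟩ : ∃ μ : N' →* ℂˣ, μ (a * ((α ^ 2 ^ i) a)⁻¹) ≠ 1 := by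
        by_contra hno
        push Not at hno
        exact ha (mul_inv_eq_one.1 (eq_one_of_forall_linear hab'' hno)).symm
      let l : N' →* ℂˣ := MonoidHom.mk' (fun u => μ u * (μ ((α ^ 2 ^ i) u))⁻¹) fun u v => by
        rw [map_mul, map_mul, map_mul, mul_inv]
        exact mul_mul_mul_comm _ _ _ _
      refine ⟨l, h₀ ^ 2 ^ i, pow_mem hh₀ _, fun e => hμ ?_, fun u => ?_⟩
      · have := DFunLike.congr_fun e a
        rw [map_mul, map_inv]
        exact this
      · rw [map_pow, ← hα, ← Units.val_inv_eq_inv_val]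
        congr 1
        show μ _ * (μ ((α ^ 2 ^ i) ((α ^ 2 ^ i) u)))⁻¹ = (μ u * (μ ((α ^ 2 ^ i) u))⁻¹)⁻¹
        rw [← MulAut.mul_apply, h2, MulAut.one_apply, mul_inv_rev, inv_inv]
    obtain ⟨φ, hφr, hφθ, hφ1⟩ := exists_real_over_linear N' hab' H' hinf' hdec' l t htH hl
    set θ : N' → ℂ := fun u => (l u : ℂ) with hθ
    have hθi : IsIrrCharacter N' θ := isIrr_linear l
    -- the real character above it
    obtain ⟨χ, hχ⟩ := FS.existsUnique_real_over K odd_index_twoGen φ.2 hφr
    obtain ⟨hχr, hχφ⟩ := (hχ χ).2 rfl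
    have hχp := hreal χ fun g => Complex.conj_eq_iff_im.1 (hχr g)
    have hcl := clifford_one K χ.2 φ.2 hχφ
    obtain ⟨e, he⟩ := IsChar.classInner_nat (IsChar.res (IsIrr.isCharacter χ.2) K) (IsIrr.isCharacter φ.2)
    rw [he, hφ1, charDeg_spec' χ, ← Nat.cast_mul, ← Nat.cast_mul, Nat.cast_inj] at hcl
    have hIp : ¬ p ∣ (inertia K (φ : K → ℂ)).index := fun h =>
      hχp (hcl ▸ (h.mul_left e).mul_right _)
    have hTp : ¬ p ∣ (inertia N' θ).index := fun h => hχp (hcl ▸ h.mul_left _)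
    -- the `p`-subgroup fixes it
    have hUI : U ≤ inertia K (φ : K → ℂ) := by
      rw [← Subgroup.relIndex_eq_one]
      have hd1 := (relIndex_dvd_index U (inertia K (φ : K → ℂ)))
      have hd2 : (inertia K (φ : K → ℂ)).relIndex U ∣ K.relIndex U :=
        Subgroup.relIndex_dvd_of_le_left U (le_inertia K (IsIrr.classFun φ.2))
      haveI : (K.subgroupOf U).Normal := Subgroup.Normal.subgroupOf (gen_normal 2) U
      have hUK : IsPGroup p (U ⧸ K.subgroupOf U) := by
        intro c
        obtain ⟨u, rfl⟩ := QuotientGroup.mk_surjective c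
        obtain ⟨a, ha⟩ := hUp u u.2
        refine ⟨a, ?_⟩
        rw [← QuotientGroup.mk_pow, QuotientGroup.eq_one_iff]
        exact ha
      obtain ⟨i, hi⟩ := IsPGroup.iff_card.1 hUK
      have hd3 : (inertia K (φ : K → ℂ)).relIndex U ∣ p ^ i := by
        rw [← hi, ← Subgroup.index_eq_card]; exact hd2
      obtain ⟨j, -, hj⟩ := (Nat.dvd_prime_pow hp.out).1 hd3
      rcases Nat.eq_zero_or_pos j with rfl | hj0
      · rw [hj, pow_zero]
      · exact absurd ((dvd_pow_self p hj0.ne').trans (hj ▸ hd1)) hIp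
    -- the action on the orbit
    let αP : G → (N' ≃* N') := fun g =>
      { toFun := fun u => ⟨⟨g * ((u : K) : G) * g⁻¹, (gen_normal 2).conj_mem _ (u : K).2 g⟩,
          hN.conj_mem _ u.2 g⟩
        invFun := fun u => ⟨⟨g⁻¹ * ((u : K) : G) * g, by simpa using (gen_normal 2).conj_mem _ (u : K).2 g⁻¹⟩,
          by have := hN.conj_mem _ u.2 g⁻¹; rw [inv_inv] at this; exact this⟩
        left_inv := fun u => Subtype.ext (Subtype.ext (by simp [mul_assoc]))
        right_inv := fun u => Subtype.ext (Subtype.ext (by simp [mul_assoc]))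
        map_mul' := fun u v => Subtype.ext (Subtype.ext (by simp [mul_assoc])) }
    have horb : ∀ g ∈ P, ∀ f ∈ conjOrbit N' θ, (fun u => f (αP g u)) ∈ conjOrbit N' θ := by
      intro g hg f hf
      obtain ⟨k, rfl⟩ := (mem_conjOrbit N').1 hf
      have hg' := (mem_inertia K).1 (hUI (hWU (hPW hg)))
      have hc1 : classInner (fun u : N' => (φ : K → ℂ) u) (conjN N' k θ) ≠ 0 := by
        rw [classInner_res_conjN N' (IsIrr.classFun φ.2) θ k]; exact hφθ
      have hc2 : classInner (fun u : N' => (φ : K → ℂ) u) (fun u => conjN N' k θ (αP g u)) ≠ 0 := by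
        have e1 : (fun u : N' => (φ : K → ℂ) u) = fun u : N' => (φ : K → ℂ) (αP g u : N') := by
          funext u
          have := congrFun hg' (u : K)
          exact this.symm
        rw [e1]
        exact fun h0 => hc1 ((classInner_comp_surjective (αP g).toMonoidHom (αP g).surjective
          (fun u : N' => (φ : K → ℂ) u) (conjN N' k θ)).symm.trans h0)
      obtain ⟨k', hk'⟩ := exists_conj_of_constituents N' φ.2 hθi
        (IsIrr.comp_mulEquiv (αP g) (IsIrr.conjN N' hθi k)) hφθ hc2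
      exact (mem_conjOrbit N').2 ⟨k', hk'⟩
    letI act : MulAction P {f : N' → ℂ // f ∈ conjOrbit N' θ} :=
      { smul := fun x f => ⟨fun u => f.1 (αP ((x : G)⁻¹) u), horb _ (inv_mem x.2) f.1 f.2⟩
        one_smul := fun f => Subtype.ext (funext fun u => congrArg f.1
          (Subtype.ext (Subtype.ext (by simp [αP]))))
        mul_smul := fun x y f => Subtype.ext (funext fun u => congrArg f.1
          (Subtype.ext (Subtype.ext (by simp [αP, mul_assoc])))) }
    obtain ⟨⟨f, hf⟩, hfix⟩ := hPp.nonempty_fixed_point_of_prime_not_dvd_card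
      {f : N' → ℂ // f ∈ conjOrbit N' θ} (by
        rw [Nat.card_eq_fintype_card, Fintype.card_coe, card_conjOrbit]; exact hTp)
    obtain ⟨k, rfl⟩ := (mem_conjOrbit N').1 hf
    set l' : N' →* ℂˣ := l.comp (MulAut.conjNormal k : MulAut N').toMonoidHom with hl'
    have hfl : ∀ u, conjN N' k θ u = (l' u : ℂ) := fun u => by
      rw [conjN_eq_comp]; rfl
    have hinv : ∀ g ∈ P, ∀ u, l' (αP g u) = l' u := by
      intro g hg u
      have h := congrFun (congrArg Subtype.val (hfix (⟨g, hg⟩⁻¹ : P))) u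
      refine Units.ext ?_
      rw [← hfl, ← hfl]
      have e1 : αP (((⟨g, hg⟩⁻¹ : P) : G)⁻¹) u = αP g u := by rw [Subgroup.coe_inv, inv_inv]
      rw [← e1]
      exact h
    -- the largest normal subgroup in the kernel
    let L : Subgroup G :=
      { carrier := {a | ∃ ha : a ∈ N, ∀ g : G, l' ⟨⟨g * a * g⁻¹, hNK (hN.conj_mem a ha g)⟩, hN.conj_mem a ha g⟩ = 1}
        one_mem' := ⟨N.one_mem, fun g => by
          rw [show (⟨⟨g * 1 * g⁻¹, hNK (hN.conj_mem 1 N.one_mem g)⟩, hN.conj_mem 1 N.one_mem g⟩ : N') = 1 from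
            Subtype.ext (Subtype.ext (by simp)), map_one]⟩
        mul_mem' := fun {a b} ⟨ha, ha'⟩ ⟨hb, hb'⟩ => ⟨N.mul_mem ha hb, fun g => by
          rw [show (⟨⟨g * (a * b) * g⁻¹, hNK (hN.conj_mem _ (N.mul_mem ha hb) g)⟩, hN.conj_mem _ (N.mul_mem ha hb) g⟩ : N') =
            ⟨⟨g * a * g⁻¹, hNK (hN.conj_mem a ha g)⟩, hN.conj_mem a ha g⟩ *
            ⟨⟨g * b * g⁻¹, hNK (hN.conj_mem b hb g)⟩, hN.conj_mem b hb g⟩ from
            Subtype.ext (Subtype.ext (by simp [mul_assoc])), map_mul, ha', hb', one_mul]⟩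
        inv_mem' := fun {a} ⟨ha, ha'⟩ => ⟨N.inv_mem ha, fun g => by
          rw [show (⟨⟨g * a⁻¹ * g⁻¹, hNK (hN.conj_mem _ (N.inv_mem ha) g)⟩, hN.conj_mem _ (N.inv_mem ha) g⟩ : N') =
            (⟨⟨g * a * g⁻¹, hNK (hN.conj_mem a ha g)⟩, hN.conj_mem a ha g⟩ : N')⁻¹ from
            Subtype.ext (Subtype.ext (by simp [mul_assoc])), map_inv, ha', inv_one]⟩ }
    have hLn : L.Normal := ⟨fun a ⟨ha, ha'⟩ g => ⟨hN.conj_mem a ha g, fun g' => by
      rw [show (⟨⟨g' * (g * a * g⁻¹) * g'⁻¹, hNK (hN.conj_mem _ (hN.conj_mem a ha g) g')⟩,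
          hN.conj_mem _ (hN.conj_mem a ha g) g'⟩ : N') =
        ⟨⟨(g' * g) * a * (g' * g)⁻¹, hNK (hN.conj_mem a ha _)⟩, hN.conj_mem a ha _⟩ from
        Subtype.ext (Subtype.ext (by simp [mul_assoc]))]
      exact ha' _⟩⟩
    rcases hmin L hLn (fun a h => h.1) with hL | hL
    · refine absurd (fun a ha x hx => ?_) hC
      have hm : a * x * a⁻¹ * x⁻¹ ∈ L := by
        have hmem : a * x * a⁻¹ * x⁻¹ ∈ N := by
          rw [show a * x * a⁻¹ * x⁻¹ = a * (x * a⁻¹ * x⁻¹) by group]
          exact mul_mem ha (hN.conj_mem _ (inv_mem ha) x)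
        refine ⟨hmem, fun g => ?_⟩
        obtain ⟨b, hb, hbx⟩ := hconj g
        set y := (b⁻¹ * g) * x * (b⁻¹ * g)⁻¹ with hy
        set c := g * a * g⁻¹ with hc
        have hcN : c ∈ N := hN.conj_mem a ha g
        have e1 : g * (a * x * a⁻¹ * x⁻¹) * g⁻¹ = c * (y * c⁻¹ * y⁻¹) := by
          have h1 : g * (a * x * a⁻¹ * x⁻¹) * g⁻¹ = c * (b * (y * (b⁻¹ * c⁻¹ * b) * y⁻¹) * b⁻¹) := by
            rw [hy, hc]; group
          have h2 : b⁻¹ * c⁻¹ * b = c⁻¹ := by
            rw [hab _ (inv_mem hb) _ (inv_mem hcN), inv_mul_cancel_right]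
          have h3 : b * (y * c⁻¹ * y⁻¹) * b⁻¹ = y * c⁻¹ * y⁻¹ := by
            rw [hab _ hb _ (hN.conj_mem _ (inv_mem hcN) y), mul_inv_cancel_right]
          rw [h1, h2, h3]
        rw [show (⟨⟨g * (a * x * a⁻¹ * x⁻¹) * g⁻¹, hNK (hN.conj_mem _ hmem g)⟩, hN.conj_mem _ hmem g⟩ : N') =
          ⟨⟨c, hNK hcN⟩, hcN⟩ * αP y (⟨⟨c, hNK hcN⟩, hcN⟩ : N')⁻¹ from Subtype.ext (Subtype.ext (by
            show g * (a * x * a⁻¹ * x⁻¹) * g⁻¹ = c * (y * c⁻¹ * y⁻¹)
            exact e1)), map_mul, hinv y (hbx x hx), map_inv, mul_inv_cancel]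
      rw [hL, Subgroup.mem_bot] at hm
      calc a * x = (a * x * a⁻¹ * x⁻¹) * (x * a) := by group
        _ = x * a := by rw [hm, one_mul]
    · exfalso
      refine hl1 (MonoidHom.ext fun u => ?_)
      obtain ⟨v, rfl⟩ := (MulAut.conjNormal k : MulAut N').surjective u
      obtain ⟨hv, hv'⟩ := (hL.ge (show ((v : K) : G) ∈ N from v.2) : ((v : K) : G) ∈ L)
      have h1 := hv' 1
      rw [show (⟨⟨1 * ((v : K) : G) * 1⁻¹, hNK (hN.conj_mem _ hv 1)⟩, hN.conj_mem _ hv 1⟩ : N') = v from
        Subtype.ext (Subtype.ext (by simp))] at h1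
      exact h1

/-- A normal Sylow subgroup found in the ambient group makes every Sylow subgroup normal. -/
theorem normal_of_exists (p : ℕ) [hp : Fact p.Prime] (U R : Subgroup G) (hRn : R.Normal) (hRU : R ≤ U)
    (hRp : IsPGroup p R) (hRi : ¬ p ∣ R.relIndex U) (Q : Sylow p U) : (Q : Subgroup U).Normal := by
  haveI : (R.subgroupOf U).Normal := Subgroup.Normal.subgroupOf hRn U
  have hRp' : IsPGroup p (R.subgroupOf U) := hRp.of_equiv (Subgroup.subgroupOfEquivOfLe hRU).symm
  let R₀ : Sylow p U := hRp'.toSylow hRi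
  obtain ⟨g, hg⟩ := MulAction.exists_smul_eq U R₀ Q
  have hR₀ : (R₀ : Subgroup U) = R.subgroupOf U := rfl
  have hfix : g • R₀ = R₀ := by
    apply Sylow.ext
    rw [Sylow.coe_subgroup_smul, hR₀]
    exact Subgroup.Normal.conjAct inferInstance (ConjAct.toConjAct g)
  rw [← hg, hfix, hR₀]
  infer_instance

theorem pow_mem_of_relIndex (p : ℕ) (U : Subgroup G) (hKU : twoGen G ≤ U)
    (hUp : ∃ a : ℕ, (twoGen G).relIndex U = p ^ a) :
    ∀ u ∈ U, ∃ a : ℕ, u ^ p ^ a ∈ twoGen G := by
  obtain ⟨a, ha⟩ := hUp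
  intro u hu
  haveI : ((twoGen G).subgroupOf U).Normal := Subgroup.Normal.subgroupOf (gen_normal 2) U
  refine ⟨a, ?_⟩
  have h := pow_card_eq_one' (x := ((⟨u, hu⟩ : U) : U ⧸ (twoGen G).subgroupOf U))
  rw [← Subgroup.index_eq_card, ← QuotientGroup.mk_pow, QuotientGroup.eq_one_iff] at h
  rw [← ha]
  exact h

end Main

end Cfsg.Agent.Block.RealP
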