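import Cfsg.Agent.Lib.Block.RealPPrime.Bij

/-!
Real characters of `p'`-degree: every real class meets the normalizer of a Sylow subgroup.
-/

set_option autoImplicit false
set_option linter.unusedSectionVars false

namespace Cfsg.Agent.Block.RealP

open scoped ComplexConjugate
open Cfsg Cfsg.Agent.Char

universe u

variable {G : Type u} [Group G] [Finite G] {p : ℕ} [hp : Fact p.Prime]

/-- The trace of a Sylow subgroup on `⟨2-elements⟩` is normal. -/
theorem inf_twoGen_normal (hreal : RealPPrime p G) (hsolv : Group.IsSolvable (pGen p G))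
    (P : Sylow p G) : ((P : Subgroup G) ⊓ twoGen G).Normal := by
  obtain ⟨R, hRn, hRle, hRp, hRi⟩ := exists_normal_sylow p (Nat.card G) G le_rfl hreal hsolv
    (twoGen G) (gen_normal 2) le_rfl (fun u hu => ⟨0, by simpa using hu⟩)
  have hRP : R ≤ (P : Subgroup G) := by
    obtain ⟨Q, hQ⟩ := hRp.exists_le_sylow
    obtain ⟨g, rfl⟩ := MulAction.exists_smul_eq G Q P
    intro x hx
    refine ⟨g⁻¹ * x * g, hQ (by simpa using hRn.conj_mem x hx g⁻¹), ?_⟩
    show g * (g⁻¹ * x * g) * g⁻¹ = x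
    group
  suffices e : (P : Subgroup G) ⊓ twoGen G = R by rw [e]; exact hRn
  refine le_antisymm ?_ (le_inf hRP hRle)
  have hp' : IsPGroup p ((P : Subgroup G) ⊓ twoGen G : Subgroup G) := P.isPGroup'.to_le inf_le_left
  obtain ⟨j, hj⟩ := hp'.index (R.subgroupOf ((P : Subgroup G) ⊓ twoGen G))
  rcases Nat.eq_zero_or_pos j with rfl | hj0
  · exact Subgroup.relIndex_eq_one.1 (hj.trans (pow_zero p))
  · refine absurd ?_ hRi
    refine (dvd_pow_self p hj0.ne').trans (hj ▸ ?_)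
    exact Dvd.intro _ (Subgroup.relIndex_mul_relIndex R ((P : Subgroup G) ⊓ twoGen G) (twoGen G)
      (le_inf hRP hRle) inf_le_right)

set_option maxHeartbeats 800000 in
/-- The case where the Sylow subgroup meets `⟨2-elements⟩` trivially. -/
theorem meets_of_disjoint (hreal : RealPPrime p G) (P : Sylow p G)
    (hdisj : (P : Subgroup G) ⊓ twoGen G = ⊥) (x : G) (hx : IsConj x x⁻¹) :
    ∃ y ∈ Nm P, IsConj x y := by
  classical
  letI : Fintype G := Fintype.ofFinite G
  haveI : (twoGen G).Normal := gen_normal 2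
  set K := twoGen G with hK
  letI : Fintype (Nm P) := Fintype.ofFinite _
  set M := K.subgroupOf (Nm P) with hM
  letI : Fintype M := Fintype.ofFinite _
  have hodd : Odd K.index := odd_index_twoGen
  have hoddM : Odd M.index := hodd.of_dvd_nat (Subgroup.relIndex_dvd_index_of_normal K (Nm P))
  have hR : ((P : Subgroup G) ⊓ K).Normal := by rw [hdisj]; infer_instance
  obtain ⟨f, hf, -⟩ := exists_bijection hR hodd hreal
  have hcomm : ∀ m : Nm P, m ∈ M → ∀ y ∈ (P : Subgroup G), y * (m : G) = (m : G) * y := by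
    intro m hm y hy
    have hm' : (m : G) ∈ K := hm
    have h1 : y * (m : G) * y⁻¹ * (m : G)⁻¹ ∈ (P : Subgroup G) ⊓ K := by
      refine Subgroup.mem_inf.2 ⟨?_, K.mul_mem ((inferInstance : K.Normal).conj_mem _ hm' y) (K.inv_mem hm')⟩
      rw [show y * (m : G) * y⁻¹ * (m : G)⁻¹ = y * ((m : G) * y⁻¹ * (m : G)⁻¹) by group]
      exact mul_mem hy ((Subgroup.mem_normalizer_iff.1 m.2 y⁻¹).1 (inv_mem hy))
    rw [hdisj, Subgroup.mem_bot] at h1
    calc y * (m : G) = y * (m : G) * y⁻¹ * (m : G)⁻¹ * ((m : G) * y) := by group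
      _ = _ := by rw [h1, one_mul]
  -- all real characters of the normalizer have degree prime to `p`
  have hKp : ¬ p ∣ Nat.card K := by
    intro h
    obtain ⟨k, hk⟩ := exists_prime_orderOf_dvd_card' p h
    obtain ⟨Q, hQ⟩ := (IsPGroup.of_card (n := 1) (p := p) (G := Subgroup.zpowers (k : G)) (by
      rw [Nat.card_zpowers, Subgroup.orderOf_coe, hk, pow_one])).exists_le_sylow
    obtain ⟨g, rfl⟩ := MulAction.exists_smul_eq G Q P
    have h1 : g * (k : G) * g⁻¹ ∈ ((g • Q : Sylow p G) : Subgroup G) ⊓ K :=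
      ⟨⟨k, hQ (Subgroup.mem_zpowers _), rfl⟩, (inferInstance : K.Normal).conj_mem _ k.2 g⟩
    rw [hdisj, Subgroup.mem_bot, conj_eq_one_iff, OneMemClass.coe_eq_one] at h1
    rw [h1, orderOf_one] at hk
    exact hp.out.one_lt.ne hk
  have hall : ∀ ξ : IrrCharacter (Nm P), (∀ n, ((ξ : Nm P → ℂ) n).im = 0) →
      ¬ p ∣ charDegree (ξ : Nm P → ℂ) := by
    intro ξ hξ
    have hξr : ∀ n, conj ((ξ : Nm P → ℂ) n) = (ξ : Nm P → ℂ) n := fun n =>
      Complex.conj_eq_iff_im.2 (hξ n)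
    obtain ⟨η, hηc, hηr⟩ := exists_real_constituent M hoddM ξ.2 hξr
    rw [rel_degree.FS_degree M hoddM η ξ hξr hηr hηc]
    intro h
    rcases hp.out.dvd_mul.1 h with h | h
    · have hle : (P : Subgroup G).subgroupOf (Nm P) ≤ inertia M (η : M → ℂ) := by
        intro y hy
        rw [mem_inertia]
        funext m
        rw [conjN_apply]
        refine congrArg (η : M → ℂ) (Subtype.ext (Subtype.ext ?_))
        show (y : G) * ((m : Nm P) : G) * (y : G)⁻¹ = ((m : Nm P) : G)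
        rw [hcomm m m.2 y hy, mul_inv_cancel_right]
      have h1 := h.trans (Subgroup.index_dvd_of_le hle)
      refine P.not_dvd_index (h1.trans ?_)
      exact Dvd.intro _ (Subgroup.relIndex_mul_index (Subgroup.le_normalizer (H := (P : Subgroup G))))
    · refine hKp (h.trans ?_)
      refine (IsIrr.degree_dvd_card η.2 (charDeg_spec' η)).trans ?_
      exact Subgroup.card_dvd_of_injective (inclM P K)
        fun a b h => Subtype.ext (Subtype.ext (congrArg (fun z : K => (z : G)) h :))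
  -- counting
  let CG := {C : ConjClasses G // ∀ y : G, ConjClasses.mk y = C → IsConj y y⁻¹}
  let CN := {C : ConjClasses (Nm P) // ∀ y : Nm P, ConjClasses.mk y = C → IsConj y y⁻¹}
  have e1 : Nat.card {χ : IrrCharacter G // ∀ g : G, ((χ : G → ℂ) g).im = 0} = Nat.card CG :=
    Cfsg.Agent.S0160.result (G := G)
  have e2 : Nat.card {ξ : IrrCharacter (Nm P) // ∀ n, ((ξ : Nm P → ℂ) n).im = 0} = Nat.card CN :=
    Cfsg.Agent.S0160.result (G := Nm P)
  have e3 : Nat.card {ξ : IrrCharacter (Nm P) // (∀ n, ((ξ : Nm P → ℂ) n).im = 0) ∧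
      ¬ p ∣ charDegree (ξ : Nm P → ℂ)} =
      Nat.card {ξ : IrrCharacter (Nm P) // ∀ n, ((ξ : Nm P → ℂ) n).im = 0} :=
    Nat.card_congr (Equiv.subtypeEquivRight fun ξ => ⟨fun h => h.1, fun h => ⟨h, hall ξ h⟩⟩)
  have hcard : Nat.card CN = Nat.card CG := by
    rw [← e1, ← e2, ← e3, Nat.card_congr (Equiv.ofBijective f hf)]
  have hreal' : ∀ {H : Type u} [Group H] {a : H}, IsConj a a⁻¹ → ∀ b : H,
      ConjClasses.mk b = ConjClasses.mk a → IsConj b b⁻¹ := by
    intro H _ a ha b hb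
    obtain ⟨c, rfl⟩ := isConj_iff.1 (ConjClasses.mk_eq_mk_iff_isConj.1 hb).symm
    exact (isConj_iff.2 ⟨c, rfl⟩ : IsConj a (c * a * c⁻¹)).symm.trans
      (ha.trans (isConj_iff.2 ⟨c, by group⟩))
  let π : CN → CG := fun C => ⟨ConjClasses.map (Nm P).subtype C.1, by
    obtain ⟨y, hy⟩ := C.1.exists_rep
    intro b hb
    rw [← hy] at hb
    refine hreal' (a := (y : G)) ?_ b hb
    have h := (Nm P).subtype.map_isConj (C.2 y hy)
    rw [map_inv] at h
    exact h⟩
  have hcent : ∀ y : Nm P, IsConj y y⁻¹ → (y : G) ∈ Subgroup.centralizer ((P : Subgroup G) : Set G) := by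
    intro y hy
    have hyM : y ∈ M := by
      obtain ⟨c, hc⟩ := isConj_iff.1 hy
      refine FS.mem_of_conj_inv M hoddM (y := c) ?_
      rw [show c * y⁻¹ * c⁻¹ * y⁻¹ = (c * y * c⁻¹)⁻¹ * y⁻¹ by group, hc, inv_inv, mul_inv_cancel]
      exact M.one_mem
    rw [Subgroup.mem_centralizer_iff]
    exact fun z hz => hcomm y hyM z hz
  have hinj : Function.Injective π := by
    rintro ⟨C, hC⟩ ⟨D, hD⟩ h
    obtain ⟨a, rfl⟩ := C.exists_rep
    obtain ⟨b, rfl⟩ := D.exists_rep
    obtain ⟨g, hg⟩ := isConj_iff.1 (ConjClasses.mk_eq_mk_iff_isConj.1 (congrArg Subtype.val h) :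
      IsConj (a : G) (b : G))
    obtain ⟨n, hn, hna⟩ := Sylow.conj_eq_normalizer_conj_of_mem_centralizer P (a : G) g⁻¹
      (hcent a (hC a rfl)) (by rw [inv_inv, hg]; exact hcent b (hD b rfl))
    refine Subtype.ext (ConjClasses.mk_eq_mk_iff_isConj.2 (isConj_iff.2 ⟨(⟨n, hn⟩ : Nm P)⁻¹,
      Subtype.ext ?_⟩))
    show n⁻¹ * (a : G) * n⁻¹⁻¹ = (b : G)
    rw [inv_inv, ← hna, inv_inv, hg]
  obtain ⟨⟨C, hC⟩, hC'⟩ := ((Nat.bijective_iff_injective_and_card π).2 ⟨hinj, hcard⟩).2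
    ⟨ConjClasses.mk x, hreal' hx⟩
  obtain ⟨a, rfl⟩ := C.exists_rep
  exact ⟨(a : G), a.2, (ConjClasses.mk_eq_mk_iff_isConj.1 (congrArg Subtype.val hC')).symm⟩

/-- Every real class meets the normalizer of a Sylow subgroup. -/
theorem meets (hreal : RealPPrime p G) (hsolv : Group.IsSolvable (pGen p G)) (P : Sylow p G) (x : G)
    (hx : IsConj x x⁻¹) : ∃ y ∈ Nm P, IsConj x y := by
  classical
  haveI : Fact (Nat.Prime 2) := ⟨Nat.prime_two⟩
  set R := (P : Subgroup G) ⊓ twoGen G with hR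
  haveI : R.Normal := inf_twoGen_normal hreal hsolv P
  set π := QuotientGroup.mk' R with hπ
  have hπs : Function.Surjective π := QuotientGroup.mk'_surjective R
  set P' := P.mapSurjective hπs with hP'
  have hdisj : (P' : Subgroup (G ⧸ R)) ⊓ twoGen (G ⧸ R) = ⊥ := by
    rw [eq_bot_iff]
    rintro c ⟨hc1, hc2⟩
    obtain ⟨a, ha, rfl⟩ := hc1
    obtain ⟨k, hk, e⟩ := gen_map_quotient 2 R hc2
    have hkR : k⁻¹ * a ∈ R := QuotientGroup.eq.1 e
    have haK : a ∈ twoGen G := by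
      simpa using (twoGen G).mul_mem hk ((inf_le_right : R ≤ twoGen G) hkR)
    exact Subgroup.mem_bot.2 ((QuotientGroup.eq_one_iff a).2 ⟨ha, haK⟩)
  obtain ⟨c, hc, hxc⟩ := meets_of_disjoint (realPPrime_quotient hreal R) P' hdisj (π x) (by
    have h := π.map_isConj hx
    rw [map_inv] at h
    exact h)
  obtain ⟨d, hd⟩ := isConj_iff.1 hxc
  obtain ⟨g, rfl⟩ := hπs d
  refine ⟨g * x * g⁻¹, ?_, isConj_iff.2 ⟨g, rfl⟩⟩
  have he : π (g * x * g⁻¹) = c := by rw [map_mul, map_mul, map_inv]; exact hd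
  have hle : R ≤ (P : Subgroup G) := inf_le_left
  have hmem : ∀ y : G, π y ∈ (P' : Subgroup (G ⧸ R)) ↔ y ∈ (P : Subgroup G) := by
    intro y
    constructor
    · rintro ⟨z, hz, hzy⟩
      simpa using mul_mem hz (hle (QuotientGroup.eq.1 hzy))
    · exact fun h => ⟨y, h, rfl⟩
  rw [Subgroup.mem_normalizer_iff]
  intro y
  rw [← hmem, ← hmem (g * x * g⁻¹ * y * (g * x * g⁻¹)⁻¹), map_mul, map_mul π (g * x * g⁻¹), map_inv π (g * x * g⁻¹), he]
  exact Subgroup.mem_normalizer_iff.1 hc (π y)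

end Cfsg.Agent.Block.RealP
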